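import Groth.Agent.L02.Hilb.ChartGeom
import Groth.Prelude.Def_FGA

/-!
Hilbert functor: immersions, open subschemes and base change of the scheme.
-/

set_option autoImplicit false
set_option linter.style.haveILetI false
set_option backward.isDefEq.respectTransparency false
set_option backward.isDefEq.respectTransparency.types false

universe u

open CategoryTheory CategoryTheory.Limits AlgebraicGeometry

noncomputable section

namespace Groth.L02.Hilb.FGAHilb

section General

variable {P Q T X' Y' : Scheme.{u}}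

theorem isClosedImmersion_of_isProper_of_mono (a : P ⟶ Q) [IsImmersion a] (p : Q ⟶ T) [IsSeparated p]
    [IsProper (a ≫ p)] : IsClosedImmersion a := by
  haveI : IsProper a := IsProper.of_comp a p
  exact IsClosedImmersion.of_isPreimmersion _ a.isClosedMap.isClosed_range

theorem isProper_flat_comap {fst : X' ⟶ P} {snd : X' ⟶ Y'} {k : P ⟶ T} {g : Y' ⟶ T}
    (sq : IsPullback fst snd k g) (I : P.IdealSheafData)
    (h : IsProper (I.subschemeι ≫ k) ∧ Flat (I.subschemeι ≫ k)) :
    IsProper ((I.comap fst).subschemeι ≫ snd) ∧ Flat ((I.comap fst).subschemeι ≫ snd) :=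
  ⟨MorphismProperty.of_isPullback (isPullback_comap sq I) h.1,
    MorphismProperty.of_isPullback (isPullback_comap sq I) h.2⟩

/-- An ideal sheaf whose subscheme lies in an open is the image of its restriction. -/
theorem map_comap_of_range_subset (m : P ⟶ Q) [IsOpenImmersion m] (I : Q.IdealSheafData)
    (hr : Set.range I.subschemeι ⊆ Set.range m) :
    IsClosedImmersion ((I.comap m).subschemeι ≫ m) ∧ (I.comap m).map m = I := by
  let l := IsOpenImmersion.lift m I.subschemeι hr
  have hl : l ≫ m = I.subschemeι := IsOpenImmersion.lift_fac _ _ _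
  haveI : IsClosedImmersion (l ≫ m) := by rw [hl]; infer_instance
  haveI : IsClosedImmersion l := IsClosedImmersion.of_comp l m
  have hI : l.ker.map m = I := by
    rw [Scheme.IdealSheafData.map_ker, hl, Scheme.IdealSheafData.ker_subschemeι]
  haveI hcl : IsClosedImmersion (l.ker.subschemeι ≫ m) := by
    rw [← MorphismProperty.cancel_left_of_respectsIso (P := @IsClosedImmersion) l.toImage, ← Category.assoc]
    erw [l.toImage_imageι]
    rw [hl]; infer_instance
  have h1 : I.comap m = l.ker := (congrArg (fun J => J.comap m) hI).symm.trans (comap_map_eq_mono _ _)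
  exact ⟨h1 ▸ hcl, h1 ▸ hI⟩

/-- The image of a closed subscheme under a map making it closed, with its map to a base. -/
theorem isProper_flat_map (m : P ⟶ Q) (I : P.IdealSheafData) [IsClosedImmersion (I.subschemeι ≫ m)] (p : Q ⟶ T) :
    ((IsProper ((I.map m).subschemeι ≫ p) ∧ Flat ((I.map m).subschemeι ≫ p)) ↔
      IsProper (I.subschemeι ≫ m ≫ p) ∧ Flat (I.subschemeι ≫ m ≫ p)) := by
  let a := I.subschemeι ≫ m
  have e : a.toImage ≫ (I.map m).subschemeι ≫ p = I.subschemeι ≫ m ≫ p := by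
    rw [← Category.assoc]
    erw [a.toImage_imageι]
    rw [Category.assoc]
  rw [← e]
  exact and_congr (MorphismProperty.cancel_left_of_respectsIso (P := @IsProper) a.toImage _).symm
    (MorphismProperty.cancel_left_of_respectsIso (P := @Flat) a.toImage _).symm

theorem range_map_subset (m : P ⟶ Q) (I : P.IdealSheafData) [IsClosedImmersion (I.subschemeι ≫ m)] :
    Set.range (I.map m).subschemeι ⊆ Set.range m := by
  show Set.range (I.subschemeι ≫ m).ker.subschemeι ⊆ _
  rw [Scheme.IdealSheafData.range_subschemeι, Scheme.Hom.support_ker]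
  show closure (Set.range (I.subschemeι ≫ m)) ⊆ _
  rw [(I.subschemeι ≫ m).isClosedEmbedding.isClosed_range.closure_eq]
  rintro _ ⟨w, rfl⟩
  exact ⟨_, (Scheme.Hom.comp_apply _ _ w).symm⟩

end General

variable {X U S : Scheme.{u}} (f : X ⟶ S)

theorem hilbPull_eq {T T' : Over S} (g : T' ⟶ T) (I : (PicF.XT f T).IdealSheafData) :
    FGA.hilbPull f g I = I.comap (PicF.XTmap f g) :=
  comap_eq_ker_snd _ _

/-- The map on `T`-families of a morphism over `S`. -/
abbrev mT (j : U ⟶ X) (T : Over S) : PicF.XT (j ≫ f) T ⟶ PicF.XT f T :=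
  pullback.map (j ≫ f) T.hom f T.hom j (𝟙 T.left) (𝟙 S) (Category.comp_id _)
    ((Category.comp_id _).trans (Category.id_comp _).symm)

theorem mT_proj (j : U ⟶ X) (T : Over S) : mT f j T ≫ PicF.XTproj f T = PicF.XTproj (j ≫ f) T := by
  simp [mT, pullback.map]

theorem mT_fst (j : U ⟶ X) (T : Over S) : mT f j T ≫ pullback.fst f T.hom = pullback.fst (j ≫ f) T.hom ≫ j := by
  simp [mT, pullback.map]

theorem isPullback_mT (j : U ⟶ X) (T : Over S) :
    IsPullback (pullback.fst (j ≫ f) T.hom) (mT f j T) j (pullback.fst f T.hom) := by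
  refine IsPullback.of_bot ?_ (mT_fst f j T).symm (IsPullback.of_hasPullback f T.hom)
  rw [mT_proj]
  exact IsPullback.of_hasPullback _ _

instance (j : U ⟶ X) [IsOpenImmersion j] (T : Over S) : IsOpenImmersion (mT f j T) :=
  MorphismProperty.of_isPullback (isPullback_mT f j T) inferInstance

theorem mem_range_mT (j : U ⟶ X) (T : Over S) (z : (PicF.XT f T : Scheme.{u})) :
    z ∈ Set.range (mT f j T) ↔ pullback.fst f T.hom z ∈ Set.range j := by
  constructor
  · rintro ⟨w, rfl⟩
    exact ⟨pullback.fst (j ≫ f) T.hom w, by rw [← Scheme.Hom.comp_apply, ← Scheme.Hom.comp_apply, mT_fst]⟩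
  · rintro ⟨w, hw⟩
    obtain ⟨p, hp, -⟩ := Scheme.Pullback.exists_preimage_pullback (f := pullback.fst f T.hom) (g := j) z w hw.symm
    refine ⟨(isPullback_mT f j T).flip.isoPullback.inv p, ?_⟩
    rw [← Scheme.Hom.comp_apply, (isPullback_mT f j T).flip.isoPullback_inv_fst]
    exact hp

/-- The Hilbert scheme of an open subscheme. -/
theorem exists_open (j : U ⟶ X) [IsOpenImmersion j] [IsSeparated f] (H : Over S) (Z : FGA.HilbSet f H)
    (hH : FGA.HilbRepresentedBy f H Z) :
    ∃ (H₀ : H.left.Opens) (Z₀ : FGA.HilbSet (j ≫ f) (Over.mk (H₀.ι ≫ H.hom))),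
      Z₀.1 = Z.1.comap (pullback.map (j ≫ f) (H₀.ι ≫ H.hom) f H.hom j H₀.ι (𝟙 S)
        (Category.comp_id _) (Category.comp_id _)) ∧
      FGA.HilbRepresentedBy (j ≫ f) (Over.mk (H₀.ι ≫ H.hom)) Z₀ := by
  haveI := hH.1
  haveI := Z.2.1
  let q := Z.1.subschemeι ≫ PicF.XTproj f H
  let bad : Set H.left := q '' ((Z.1.subschemeι ≫ pullback.fst f H.hom) ⁻¹' (Set.range j)ᶜ)
  have hbad : IsClosed bad := q.isClosedMap _
    ((j.isOpenEmbedding.isOpen_range.isClosed_compl).preimage (Z.1.subschemeι ≫ pullback.fst f H.hom).continuous)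
  let H₀ : H.left.Opens := ⟨badᶜ, hbad.isOpen_compl⟩
  let T₀ : Over S := Over.mk (H₀.ι ≫ H.hom)
  let ι : T₀ ⟶ H := Over.homMk H₀.ι rfl
  -- families pulled back along maps into the open lie in `U`
  have key : ∀ {T : Over S} (g : T ⟶ H), Set.range g.left ⊆ (H₀ : Set H.left) →
      Set.range (Z.1.comap (PicF.XTmap f g)).subschemeι ⊆ Set.range (mT f j T) := by
    rintro T g hg _ ⟨v, rfl⟩
    rw [mem_range_mT]
    by_contra hcon
    let m := (Z.1.comapIso (PicF.XTmap f g)).hom ≫ pullback.snd _ _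
    have hm : m ≫ Z.1.subschemeι = (Z.1.comap (PicF.XTmap f g)).subschemeι ≫ PicF.XTmap f g := by
      simp only [m, Category.assoc, ← pullback.condition]
      rw [← Category.assoc, Scheme.IdealSheafData.comapIso_hom_fst]
    have h1 : (m ≫ Z.1.subschemeι ≫ PicF.XTproj f H) v ∈ Set.range g.left := by
      rw [reassoc_of% hm, XTmap_snd, ← Category.assoc, Scheme.Hom.comp_apply]
      exact Set.mem_range_self _
    refine (hg h1) ⟨m v, ?_, by simp [q]⟩
    show (Z.1.subschemeι ≫ pullback.fst f H.hom) (m v) ∉ Set.range j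
    rw [← Scheme.Hom.comp_apply, reassoc_of% hm, XTmap_fst, Scheme.Hom.comp_apply]
    exact hcon
  have hmap : pullback.map (j ≫ f) (H₀.ι ≫ H.hom) f H.hom j H₀.ι (𝟙 S) (Category.comp_id _) (Category.comp_id _) =
      mT f j T₀ ≫ PicF.XTmap f ι := by
    apply pullback.hom_ext
    · rw [Category.assoc, XTmap_fst, mT_fst, pullback.lift_fst]; rfl
    · rw [Category.assoc, XTmap_snd, ← Category.assoc, mT_proj, pullback.lift_snd]; rfl
  have hZ₀ : IsProper ((Z.1.comap (mT f j T₀ ≫ PicF.XTmap f ι)).subschemeι ≫ PicF.XTproj (j ≫ f) T₀) ∧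
      Flat ((Z.1.comap (mT f j T₀ ≫ PicF.XTmap f ι)).subschemeι ≫ PicF.XTproj (j ≫ f) T₀) := by
    rw [Scheme.IdealSheafData.comap_comp, ← mT_proj f j T₀]
    obtain ⟨hc, he⟩ := map_comap_of_range_subset (mT f j T₀) _ (key ι (by rintro _ ⟨t, rfl⟩; exact t.2))
    refine (isProper_flat_map _ _ _).1 ?_
    rw [he]
    exact isProper_flat_comap (isPullback_XTmap f ι) _ Z.2
  refine ⟨H₀, ⟨_, hZ₀⟩, by rw [hmap], inferInstanceAs (IsLocallyNoetherian (H₀ : Scheme)), fun T _ Y => ?_⟩
  haveI : IsImmersion (Y.1.subschemeι ≫ mT f j T) := inferInstance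
  haveI : IsProper ((Y.1.subschemeι ≫ mT f j T) ≫ PicF.XTproj f T) := by
    rw [Category.assoc, mT_proj]; exact Y.2.1
  haveI := isClosedImmersion_of_isProper_of_mono (Y.1.subschemeι ≫ mT f j T) (PicF.XTproj f T)
  let Y' : FGA.HilbSet f T := ⟨Y.1.map (mT f j T), (isProper_flat_map _ _ _).2 (by rw [mT_proj]; exact Y.2)⟩
  obtain ⟨g, hg, huniq⟩ := hH.2 T Y'
  have hcomm : ∀ g₀ : T ⟶ T₀, PicF.XTmap (j ≫ f) g₀ ≫ mT f j T₀ ≫ PicF.XTmap f ι =
      mT f j T ≫ PicF.XTmap f (g₀ ≫ ι) := fun g₀ => by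
    apply pullback.hom_ext
    · simp only [Category.assoc, XTmap_fst, mT_fst]
      rw [← Category.assoc, XTmap_fst]
    · simp only [Category.assoc, XTmap_snd]
      rw [← Category.assoc (mT f j T₀), mT_proj, ← Category.assoc, XTmap_snd, ← Category.assoc (mT f j T), mT_proj,
        Category.assoc, Over.comp_left]
  have hpull : ∀ g₀ : T ⟶ T₀, FGA.hilbPull (j ≫ f) g₀ (Z.1.comap (mT f j T₀ ≫ PicF.XTmap f ι)) =
      (FGA.hilbPull f (g₀ ≫ ι) Z.1).comap (mT f j T) := fun g₀ => by
    rw [hilbPull_eq, hilbPull_eq, ← Scheme.IdealSheafData.comap_comp, hcomm, Scheme.IdealSheafData.comap_comp]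
  have hgr : Set.range g.left ⊆ Set.range H₀.ι := by
    rw [Scheme.Opens.range_ι]
    rintro _ ⟨t, rfl⟩ ⟨w, hw, hwt⟩
    have h0 : (Y.1.map (mT f j T)) = Z.1.comap (PicF.XTmap f g) := by rw [← hilbPull_eq]; exact hg.symm
    have sq := isPullback_comap (isPullback_XTmap f g) Z.1
    obtain ⟨p, hp1, -⟩ := Scheme.Pullback.exists_preimage_pullback
      (f := Z.1.subschemeι ≫ PicF.XTproj f H) (g := g.left) w t hwt
    let v := sq.isoPullback.inv p
    have hr := range_map_subset (mT f j T) Y.1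
    rw [h0] at hr
    obtain ⟨b, hb⟩ := (mem_range_mT f j T _).1 (hr ⟨v, rfl⟩)
    refine hw ⟨b, ?_⟩
    rw [hb, ← hp1]
    have e : (Z.1.comap (PicF.XTmap f g)).subschemeι ≫ pullback.fst f T.hom =
        ((Z.1.comapIso (PicF.XTmap f g)).hom ≫ pullback.snd _ _) ≫ Z.1.subschemeι ≫ pullback.fst f H.hom := by
      rw [Category.assoc, ← pullback.condition_assoc, Scheme.IdealSheafData.comapIso_hom_fst_assoc, XTmap_fst]
    have e2 := congrArg (fun r => r p) sq.isoPullback_inv_fst
    simp only [Scheme.Hom.comp_apply] at e2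
    rw [← Scheme.Hom.comp_apply, e, ← e2]
    simp only [v, Scheme.Hom.comp_apply]
  let g₀ : T ⟶ T₀ := Over.homMk (IsOpenImmersion.lift H₀.ι g.left hgr) (by
    show IsOpenImmersion.lift H₀.ι g.left hgr ≫ H₀.ι ≫ H.hom = T.hom
    rw [IsOpenImmersion.lift_fac_assoc, Over.w g])
  have hg₀ : g₀ ≫ ι = g := Over.OverMorphism.ext (IsOpenImmersion.lift_fac _ _ _)
  refine ⟨g₀, ?_, fun g₁ hg₁ => ?_⟩
  · show FGA.hilbPull (j ≫ f) g₀ (Z.1.comap (mT f j T₀ ≫ PicF.XTmap f ι)) = _
    rw [hpull, hg₀, hg]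
    exact comap_map_eq_mono _ _
  · change FGA.hilbPull (j ≫ f) g₁ (Z.1.comap (mT f j T₀ ≫ PicF.XTmap f ι)) = _ at hg₁
    rw [hpull] at hg₁
    have h1 := map_comap_of_range_subset (mT f j T) (FGA.hilbPull f (g₁ ≫ ι) Z.1) (by
      rw [hilbPull_eq]
      exact key (g₁ ≫ ι) (by rintro _ ⟨t, rfl⟩; exact (g₁.left t).2))
    rw [hg₁] at h1
    have h2 : g₁ ≫ ι = g₀ ≫ ι := (huniq _ h1.2.symm).trans hg₀.symm
    exact Over.OverMorphism.ext ((cancel_mono H₀.ι).1 (congrArg CommaMorphism.left h2))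

/-- The Hilbert scheme after base change. -/
theorem representedBy_baseChange {S' : Scheme.{u}} [IsNoetherian S'] (h : S' ⟶ S)
    (H : Over S) (Z : FGA.HilbSet f H) (hH : FGA.HilbRepresentedBy f H Z)
    [LocallyOfFiniteType H.hom]
    (Z' : FGA.HilbSet (pullback.snd f h) (Over.mk (pullback.snd H.hom h)))
    (hZ' : Z'.1 = Z.1.comap (pullback.map (pullback.snd f h) (pullback.snd H.hom h) f H.hom
      (pullback.fst f h) (pullback.fst H.hom h) h pullback.condition.symm pullback.condition.symm)) :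
    FGA.HilbRepresentedBy (pullback.snd f h) (Over.mk (pullback.snd H.hom h)) Z' := by
  refine ⟨LocallyOfFiniteType.isLocallyNoetherian (pullback.snd H.hom h), fun T _ Y => ?_⟩
  let T' : Over S := Over.mk (T.hom ≫ h)
  haveI : IsLocallyNoetherian T'.left := inferInstanceAs (IsLocallyNoetherian T.left)
  let φ : PicF.XT (pullback.snd f h) T ≅ PicF.XT f T' := pullbackLeftPullbackSndIso f h T.hom
  have hφ : φ.hom ≫ PicF.XTproj f T' = PicF.XTproj (pullback.snd f h) T :=
    pullbackLeftPullbackSndIso_hom_snd f h T.hom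
  haveI : IsIso (𝟙 T.left) := IsIso.id _
  let Y' : FGA.HilbSet f T' := ⟨Y.1.comap φ.inv,
    isProper_flat_comap (IsPullback.of_horiz_isIso (fst := φ.inv) (snd := PicF.XTproj f T')
      (f := PicF.XTproj (pullback.snd f h) T) (g := 𝟙 T.left)
      ⟨by rw [← hφ, Iso.inv_hom_id_assoc]; exact (Category.comp_id _).symm⟩) Y.1 Y.2⟩
  have hpull : ∀ g : T ⟶ Over.mk (pullback.snd H.hom h),
      FGA.hilbPull (pullback.snd f h) g Z'.1 = (FGA.hilbPull f
        (Over.homMk (g.left ≫ pullback.fst H.hom h) (by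
          show (g.left ≫ pullback.fst H.hom h) ≫ H.hom = T.hom ≫ h
          rw [Category.assoc, pullback.condition, ← Category.assoc]
          exact congrArg (· ≫ h) (Over.w g)) : T' ⟶ H) Z.1).comap φ.hom := fun g => by
    rw [hilbPull_eq, hilbPull_eq, hZ', ← Scheme.IdealSheafData.comap_comp, ← Scheme.IdealSheafData.comap_comp]
    congr 1
    apply pullback.hom_ext
    · rw [Category.assoc, Category.assoc, XTmap_fst, pullback.lift_fst, ← Category.assoc]
      erw [XTmap_fst]
      exact (pullbackLeftPullbackSndIso_hom_fst f h T.hom).symm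
    · rw [Category.assoc, Category.assoc, XTmap_snd, pullback.lift_snd, ← Category.assoc]
      erw [XTmap_snd]
      rw [← Category.assoc, hφ, Category.assoc]
      rfl
  have hback : ∀ J : (PicF.XT (pullback.snd f h) T).IdealSheafData, (J.comap φ.inv).comap φ.hom = J := fun J => by
    rw [← Scheme.IdealSheafData.comap_comp, φ.hom_inv_id, Scheme.IdealSheafData.comap_id]
  have hback' : ∀ J : (PicF.XT f T').IdealSheafData, (J.comap φ.hom).comap φ.inv = J := fun J => by
    rw [← Scheme.IdealSheafData.comap_comp, φ.inv_hom_id, Scheme.IdealSheafData.comap_id]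
  obtain ⟨g, hg, huniq⟩ := hH.2 T' Y'
  refine ⟨Over.homMk (pullback.lift g.left T.hom (Over.w g)) (pullback.lift_snd _ _ _), ?_, fun g₁ hg₁ => ?_⟩
  · show FGA.hilbPull _ _ Z'.1 = _
    rw [hpull]
    convert congrArg (fun J => Scheme.IdealSheafData.comap J φ.hom) hg using 1
    · congr 2
      exact Over.OverMorphism.ext (pullback.lift_fst _ _ _)
    · exact (hback _).symm
  · change FGA.hilbPull _ g₁ Z'.1 = _ at hg₁
    rw [hpull] at hg₁
    have h1 := huniq _ ((hback' _).symm.trans (congrArg (fun J => Scheme.IdealSheafData.comap J φ.inv) hg₁))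
    refine Over.OverMorphism.ext (pullback.hom_ext ?_ ?_)
    · exact (congrArg CommaMorphism.left h1).trans (pullback.lift_fst _ _ _).symm
    · exact (Over.w g₁).trans (pullback.lift_snd _ _ _).symm

end Groth.L02.Hilb.FGAHilb
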