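import Groth.Agent.L02.SchDom.ClosedLocus
import Groth.Agent.L22.Ideal
import Groth.Prelude.Def_HilbD

/-!
Closed subschemes finite locally free over the base and their base change.
-/

set_option autoImplicit false
set_option linter.style.haveILetI false
set_option backward.isDefEq.respectTransparency false
set_option backward.isDefEq.respectTransparency.types false

universe u

open CategoryTheory CategoryTheory.Limits AlgebraicGeometry

namespace Groth.L02.Hilb

section General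

variable {X Y X' Y' P W : Scheme.{u}}

theorem comap_eq_ker_snd (I : Y.IdealSheafData) (g : X ⟶ Y) :
    (pullback.snd I.subschemeι g).ker = I.comap g := by
  rw [← pullbackSymmetry_hom_comp_fst, Scheme.Hom.ker_comp_of_isIso]
  rfl

/-- The base change of a closed subscheme. -/
theorem isPullback_comap {fst : X' ⟶ X} {snd : X' ⟶ Y'} {k : X ⟶ Y} {g : Y' ⟶ Y}
    (sq : IsPullback fst snd k g) (I : X.IdealSheafData) :
    IsPullback ((I.comapIso fst).hom ≫ pullback.snd _ _)
      ((I.comap fst).subschemeι ≫ snd) (I.subschemeι ≫ k) g := by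
  have h0 : IsPullback (pullback.snd fst I.subschemeι)
      (pullback.fst fst I.subschemeι ≫ snd) (I.subschemeι ≫ k) g :=
    (IsPullback.of_hasPullback fst I.subschemeι).flip.paste_vert sq
  refine h0.of_iso (I.comapIso fst).symm (Iso.refl _) (Iso.refl _) (Iso.refl _) ?_ ?_ ?_ ?_
  · simp only [Iso.symm_hom, Iso.inv_hom_id_assoc, Iso.refl_hom, Category.comp_id]
  · rw [Iso.refl_hom, Category.comp_id, Iso.symm_hom, ← Category.assoc]
    erw [Scheme.IdealSheafData.comapIso_inv_subschemeι]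
  · simp
  · simp

theorem isFinLocFreeOfDeg_comap {fst : X' ⟶ X} {snd : X' ⟶ Y'} {k : X ⟶ Y} {g : Y' ⟶ Y}
    (sq : IsPullback fst snd k g) {d : ℕ} (I : X.IdealSheafData)
    (h : Mor2.IsFinLocFreeOfDeg d (I.subschemeι ≫ k)) :
    Mor2.IsFinLocFreeOfDeg d ((I.comap fst).subschemeι ≫ snd) := by
  obtain ⟨⟨hfin, hflat, hfp⟩, hd⟩ := h
  have sq' := isPullback_comap sq I
  haveI := hfin; haveI := hflat; haveI := hfp
  exact ⟨⟨MorphismProperty.of_isPullback sq' hfin, MorphismProperty.of_isPullback sq' hflat,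
    MorphismProperty.of_isPullback sq' hfp⟩, fun y => by
      rw [Scheme.Hom.finrank_of_isPullback _ _ _ _ sq' y, hd]⟩

theorem isFinLocFreeOfDeg_iso_comp {d : ℕ} (e : W ⟶ X) [IsIso e] (k : X ⟶ Y)
    (h : Mor2.IsFinLocFreeOfDeg d k) : Mor2.IsFinLocFreeOfDeg d (e ≫ k) := by
  obtain ⟨⟨hfin, hflat, hfp⟩, hd⟩ := h
  haveI := hfin; haveI := hflat; haveI := hfp
  exact ⟨⟨inferInstance, inferInstance, inferInstance⟩, fun y => by
    rw [Scheme.Hom.finrank_comp_left_of_isIso e k, hd]⟩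

theorem isFinLocFreeOfDeg_one_of_isIso (k : X ⟶ Y) [IsIso k] : Mor2.IsFinLocFreeOfDeg 1 k :=
  ⟨⟨inferInstance, inferInstance, inferInstance⟩, fun y => by rw [Scheme.Hom.finrank_eq_one_of_isIso k]; rfl⟩

/-- The containment locus of a finite locally free closed subscheme in a closed subscheme. -/
theorem exists_leLocus (k : X ⟶ Y) (I J : X.IdealSheafData) [IsFinite (J.subschemeι ≫ k)]
    [Flat (J.subschemeι ≫ k)] [LocallyOfFinitePresentation (J.subschemeι ≫ k)] :
    ∃ 𝓩 : Y.IdealSheafData, ∀ {X' Y' : Scheme.{u}} {fst : X' ⟶ X} {snd : X' ⟶ Y'} {g : Y' ⟶ Y},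
      IsPullback fst snd k g → (𝓩 ≤ g.ker ↔ I.comap fst ≤ J.comap fst) := by
  obtain ⟨T, t, ht, -, h⟩ := Groth.L02.SchDom.exists_factorLocus (J.subschemeι ≫ k) I.subschemeι J.subschemeι
  refine ⟨t.ker, fun {X' Y' fst snd g} sq => ?_⟩
  rw [← Groth.L02.SchDom.exists_factor_iff_ker_le, h,
    Groth.L02.SchDom.exists_factor_iff_ker_le, Scheme.IdealSheafData.ker_subschemeι]
  have e : pullback.fst (J.subschemeι ≫ k) g ≫ J.subschemeι =
      (isPullback_comap sq J).isoPullback.inv ≫ (J.comap fst).subschemeι ≫ fst := by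
    rw [← (isPullback_comap sq J).isoPullback_inv_fst, Category.assoc, Category.assoc]
    congr 1
    rw [← pullback.condition, ← Category.assoc, Scheme.IdealSheafData.comapIso_hom_fst]
  rw [e, Scheme.Hom.ker_comp_of_isIso, ← Scheme.IdealSheafData.map_ker, Scheme.IdealSheafData.ker_subschemeι,
    Scheme.IdealSheafData.le_map_iff_comap_le]

theorem comap_map_eq (j : X ⟶ Y) [IsClosedImmersion j] (I : X.IdealSheafData) : (I.map j).comap j = I := by
  rw [Scheme.IdealSheafData.map, ← Scheme.IdealSheafData.ker_fst_of_isClosedImmersion]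
  have h : IsPullback I.subschemeι (𝟙 _) j (I.subschemeι ≫ j) :=
    IsPullback.of_isLimit' ⟨by simp⟩ (PullbackCone.isLimitAux' _ fun s =>
      ⟨s.snd, by rw [← cancel_mono j, Category.assoc]; exact s.condition.symm, Category.comp_id _,
        fun h₁ h₂ => by simpa using! h₂⟩)
  rw [← h.isoPullback_inv_fst, Scheme.Hom.ker_comp_of_isIso, Scheme.IdealSheafData.ker_subschemeι]

theorem map_comap_eq (j : X ⟶ Y) [IsClosedImmersion j] (J : Y.IdealSheafData) (h : j.ker ≤ J) :
    (J.comap j).map j = J := by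
  let l := IsClosedImmersion.lift j J.subschemeι (by rwa [Scheme.IdealSheafData.ker_subschemeι])
  have hl : l ≫ j = J.subschemeι := IsClosedImmersion.lift_fac _ _ _
  have hJ : J = l.ker.map j := by
    rw [Scheme.IdealSheafData.map_ker, hl, Scheme.IdealSheafData.ker_subschemeι]
  rw [hJ, comap_map_eq]

theorem map_comap_of_isPullback {fst : X' ⟶ X} {j' : X' ⟶ P} {j : X ⟶ Y} {q : P ⟶ Y}
    [IsClosedImmersion j] [IsClosedImmersion j'] (sq : IsPullback fst j' j q) (I : X.IdealSheafData) :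
    (I.map j).comap q = (I.comap fst).map j' := by
  rw [Scheme.IdealSheafData.map, ← Scheme.IdealSheafData.ker_fst_of_isClosedImmersion]
  have h := isPullback_comap sq I
  rw [← h.flip.isoPullback_inv_fst, Scheme.Hom.ker_comp_of_isIso]
  rfl

/-- A section of a separated morphism is determined by its ideal. -/
theorem section_eq_of_ker_le {p : P ⟶ Y} (s t : Y ⟶ P) [IsClosedImmersion s] (hs : s ≫ p = 𝟙 Y)
    (ht : t ≫ p = 𝟙 Y) (h : s.ker ≤ t.ker) : s = t := by
  have hl := IsClosedImmersion.lift_fac s t h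
  have h1 : IsClosedImmersion.lift s t h = 𝟙 Y := by
    have := congrArg (· ≫ p) hl
    simp only [Category.assoc, hs, ht, Category.comp_id] at this
    exact this
  rw [h1, Category.id_comp] at hl
  exact hl

theorem ker_section_comap {fst : X' ⟶ X} {snd : X' ⟶ Y'} {k : X ⟶ Y} {g : Y' ⟶ Y}
    (sq : IsPullback fst snd k g) (s : Y ⟶ X) [IsClosedImmersion s] (hs : s ≫ k = 𝟙 Y)
    (s' : Y' ⟶ X') (hs' : s' ≫ snd = 𝟙 Y') (hss : s' ≫ fst = g ≫ s) :
    s.ker.comap fst = s'.ker := by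
  have h : IsPullback g s' s fst :=
    IsPullback.of_bot (by rw [hs, hs']; exact IsPullback.of_vert_isIso ⟨by simp⟩) hss.symm sq
  rw [← Scheme.IdealSheafData.ker_fst_of_isClosedImmersion, ← h.flip.isoPullback_inv_fst,
    Scheme.Hom.ker_comp_of_isIso]

end General

variable {X Y S : Scheme.{u}} (f : X ⟶ S) {d : ℕ}

theorem pull_eq {T T' : Over S} (g : T' ⟶ T) (I : (PicF.XT f T).IdealSheafData) :
    HilbD.pull f g I = I.comap (PicF.XTmap f g) :=
  comap_eq_ker_snd _ _

theorem XTmap_id (T : Over S) : PicF.XTmap f (𝟙 T) = 𝟙 _ := by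
  apply pullback.hom_ext <;> simp [PicF.XTmap]

theorem XTmap_comp {T T' T'' : Over S} (h : T'' ⟶ T') (g : T' ⟶ T) :
    PicF.XTmap f (h ≫ g) = PicF.XTmap f h ≫ PicF.XTmap f g := by
  apply pullback.hom_ext <;> simp [PicF.XTmap]

theorem XTmap_fst {T T' : Over S} (g : T' ⟶ T) :
    PicF.XTmap f g ≫ pullback.fst f T.hom = pullback.fst f T'.hom := by simp [PicF.XTmap]

theorem XTmap_snd {T T' : Over S} (g : T' ⟶ T) :
    PicF.XTmap f g ≫ PicF.XTproj f T = PicF.XTproj f T' ≫ g.left := by simp [PicF.XTmap]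

theorem isPullback_XTmap {T T' : Over S} (g : T' ⟶ T) :
    IsPullback (PicF.XTmap f g) (PicF.XTproj f T') (PicF.XTproj f T) g.left := by
  refine IsPullback.of_right (h₁₂ := pullback.fst f T.hom) ?_ (XTmap_snd f g) (IsPullback.of_hasPullback f T.hom)
  rw [XTmap_fst, Over.w g]
  exact IsPullback.of_hasPullback _ _

theorem pull_id (T : Over S) (I : (PicF.XT f T).IdealSheafData) : HilbD.pull f (𝟙 T) I = I := by
  rw [pull_eq, XTmap_id, Scheme.IdealSheafData.comap_id]

theorem pull_comp {T T' T'' : Over S} (h : T'' ⟶ T') (g : T' ⟶ T) (I : (PicF.XT f T).IdealSheafData) :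
    HilbD.pull f (h ≫ g) I = HilbD.pull f h (HilbD.pull f g I) := by
  rw [pull_eq, pull_eq, pull_eq, XTmap_comp, Scheme.IdealSheafData.comap_comp]

theorem pull_mul {T T' : Over S} (g : T' ⟶ T) (I J : (PicF.XT f T).IdealSheafData) :
    HilbD.pull f g (I * J) = HilbD.pull f g I * HilbD.pull f g J := by
  rw [pull_eq, pull_eq, pull_eq, Groth.L22.Ideals.comap_mul]

theorem isFinLocFreeOfDeg_pull {T T' : Over S} (g : T' ⟶ T) (I : (PicF.XT f T).IdealSheafData)
    (h : Mor2.IsFinLocFreeOfDeg d (I.subschemeι ≫ PicF.XTproj f T)) :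
    Mor2.IsFinLocFreeOfDeg d ((HilbD.pull f g I).subschemeι ≫ PicF.XTproj f T') := by
  rw [pull_eq]
  exact isFinLocFreeOfDeg_comap (isPullback_XTmap f g) I h

/-- The pulled back family. -/
noncomputable def pullObj {T T' : Over S} (g : T' ⟶ T) (Z : HilbD.Obj f d T) : HilbD.Obj f d T' :=
  ⟨HilbD.pull f g Z.1, isFinLocFreeOfDeg_pull f g Z.1 Z.2⟩

theorem hom_ext_of_isUniversal {H : Over S} {Z : HilbD.Obj f d H} (hZ : HilbD.IsUniversal f d H Z) {T : Over S}
    (a b : T ⟶ H) (h : HilbD.pull f a Z.1 = HilbD.pull f b Z.1) : a = b :=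
  (hZ T (pullObj f b Z)).unique h rfl

theorem exists_iso_of_isUniversal {H H' : Over S} {Z : HilbD.Obj f d H} {Z' : HilbD.Obj f d H'}
    (hZ : HilbD.IsUniversal f d H Z) (hZ' : HilbD.IsUniversal f d H' Z') :
    ∃ e : H' ≅ H, HilbD.pull f e.hom Z.1 = Z'.1 := by
  obtain ⟨a, ha⟩ := (hZ H' Z').exists
  obtain ⟨b, hb⟩ := (hZ' H Z).exists
  refine ⟨⟨a, b, hom_ext_of_isUniversal f hZ' _ _ ?_, hom_ext_of_isUniversal f hZ _ _ ?_⟩, ha⟩
  · rw [pull_comp, hb, ha, pull_id]
  · rw [pull_comp, ha, hb, pull_id]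

/-- The universal diagonal of a separated Hilbert functor. -/
theorem isClosedImmersion_diagonal {H : Over S} {Z : HilbD.Obj f d H} (hZ : HilbD.IsUniversal f d H Z) :
    IsClosedImmersion (pullback.diagonal H.hom) := by
  let T₀ : Over S := Over.mk (pullback.fst H.hom H.hom ≫ H.hom)
  let p₁ : T₀ ⟶ H := Over.homMk (pullback.fst H.hom H.hom) rfl
  let p₂ : T₀ ⟶ H := Over.homMk (pullback.snd H.hom H.hom) pullback.condition.symm
  let I := HilbD.pull f p₁ Z.1
  let J := HilbD.pull f p₂ Z.1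
  obtain ⟨⟨hI1, hI2, hI3⟩, -⟩ := (pullObj f p₁ Z).2
  obtain ⟨⟨hJ1, hJ2, hJ3⟩, -⟩ := (pullObj f p₂ Z).2
  obtain ⟨Z₁, hZ₁⟩ := @exists_leLocus _ _ (PicF.XTproj f T₀) I J hJ1 hJ2 hJ3
  obtain ⟨Z₂, hZ₂⟩ := @exists_leLocus _ _ (PicF.XTproj f T₀) J I hI1 hI2 hI3
  have key : ∀ {T : Scheme.{u}} (g : T ⟶ T₀.left), Z₁ ⊔ Z₂ ≤ g.ker ↔
      g ≫ pullback.fst H.hom H.hom = g ≫ pullback.snd H.hom H.hom := by
    intro T g
    let T' : Over S := Over.mk (g ≫ T₀.hom)
    let g' : T' ⟶ T₀ := Over.homMk g rfl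
    rw [sup_le_iff]
    refine (and_congr (hZ₁ (isPullback_XTmap f g')) (hZ₂ (isPullback_XTmap f g'))).trans ?_
    rw [← le_antisymm_iff, ← pull_eq, ← pull_eq, ← pull_comp, ← pull_comp]
    refine ⟨fun h => congrArg CommaMorphism.left (hom_ext_of_isUniversal f hZ _ _ h), fun h => ?_⟩
    rw [show g' ≫ p₁ = g' ≫ p₂ from Over.OverMorphism.ext h]
  let ι := (Z₁ ⊔ Z₂).subschemeι
  have hι : ι ≫ pullback.fst H.hom H.hom = ι ≫ pullback.snd H.hom H.hom :=
    (key ι).1 (by rw [Scheme.IdealSheafData.ker_subschemeι])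
  obtain ⟨a, ha⟩ := (Groth.L02.SchDom.exists_factor_iff_ker_le ι (pullback.diagonal H.hom)).2
    (by rw [Scheme.IdealSheafData.ker_subschemeι]; exact (key (pullback.diagonal H.hom)).2 (by simp))
  let b := ι ≫ pullback.fst H.hom H.hom
  have hb : b ≫ pullback.diagonal H.hom = ι := by
    apply pullback.hom_ext
    · simp [b]
    · simp [b]; exact hι
  haveI : IsIso a := ⟨b, by rw [← cancel_mono (pullback.diagonal H.hom), Category.assoc, hb, ha, Category.id_comp],
    by rw [← cancel_mono ι, Category.assoc, ha, hb, Category.id_comp]⟩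
  rw [← ha]
  infer_instance

theorem isSeparated_of_isUniversal {H : Over S} {Z : HilbD.Obj f d H} (hZ : HilbD.IsUniversal f d H Z) :
    IsSeparated H.hom :=
  ⟨isClosedImmersion_diagonal f hZ⟩

section Graph

variable [IsSeparated f]

/-- The graph section. -/
noncomputable def secMor (T : Over S) (x : T.left ⟶ X) (hx : x ≫ f = T.hom) : T.left ⟶ PicF.XT f T :=
  pullback.lift x (𝟙 T.left) (by simpa using hx)

theorem secMor_proj (T : Over S) (x : T.left ⟶ X) (hx : x ≫ f = T.hom) :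
    secMor f T x hx ≫ PicF.XTproj f T = 𝟙 _ := pullback.lift_snd _ _ _

theorem secMor_fst (T : Over S) (x : T.left ⟶ X) (hx : x ≫ f = T.hom) :
    secMor f T x hx ≫ pullback.fst f T.hom = x := pullback.lift_fst _ _ _

instance (T : Over S) (x : T.left ⟶ X) (hx : x ≫ f = T.hom) : IsClosedImmersion (secMor f T x hx) := by
  haveI : IsClosedImmersion (secMor f T x hx ≫ PicF.XTproj f T) := by rw [secMor_proj]; infer_instance
  exact IsClosedImmersion.of_comp (secMor f T x hx) (PicF.XTproj f T)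

theorem secGraph_eq (T : Over S) (x : T.left ⟶ X) (hx : x ≫ f = T.hom) :
    HilbD.secGraph f T x hx = (secMor f T x hx).ker := rfl

theorem isFinLocFreeOfDeg_secGraph (T : Over S) (x : T.left ⟶ X) (hx : x ≫ f = T.hom) :
    Mor2.IsFinLocFreeOfDeg 1 ((HilbD.secGraph f T x hx).subschemeι ≫ PicF.XTproj f T) := by
  let s := secMor f T x hx
  have e : s.ker.subschemeι ≫ PicF.XTproj f T = inv s.toImage := by
    refine IsIso.eq_inv_of_hom_inv_id ?_
    rw [← Category.assoc]
    exact (congrArg (· ≫ PicF.XTproj f T) s.toImage_imageι).trans (secMor_proj f T x hx)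
  rw [secGraph_eq, e]
  exact isFinLocFreeOfDeg_one_of_isIso _

theorem pull_secGraph {T T' : Over S} (g : T' ⟶ T) (x : T.left ⟶ X) (hx : x ≫ f = T.hom)
    (x' : T'.left ⟶ X) (hx' : x' ≫ f = T'.hom) (h : x' = g.left ≫ x) :
    HilbD.pull f g (HilbD.secGraph f T x hx) = HilbD.secGraph f T' x' hx' := by
  rw [pull_eq, secGraph_eq, secGraph_eq]
  refine ker_section_comap (isPullback_XTmap f g) _ (secMor_proj f T x hx) _ (secMor_proj f T' x' hx') ?_
  subst h
  apply pullback.hom_ext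
  · rw [Category.assoc, Category.assoc, XTmap_fst, secMor_fst, secMor_fst]
  · rw [Category.assoc, Category.assoc, XTmap_snd, ← Category.assoc, secMor_proj, secMor_proj,
      Category.id_comp, Category.comp_id]

theorem secGraph_inj {T : Over S} {x y : T.left ⟶ X} {hx : x ≫ f = T.hom} {hy : y ≫ f = T.hom}
    (h : HilbD.secGraph f T x hx = HilbD.secGraph f T y hy) : x = y := by
  rw [← secMor_fst f T x hx, ← secMor_fst f T y hy,
    section_eq_of_ker_le (secMor f T x hx) (secMor f T y hy) (secMor_proj f T x hx) (secMor_proj f T y hy) h.le]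

theorem exists_secGraph_eq {T : Over S} (Z : HilbD.Obj f 1 T) :
    ∃ (x : T.left ⟶ X) (hx : x ≫ f = T.hom), HilbD.secGraph f T x hx = Z.1 := by
  obtain ⟨⟨hfin, hflat, hfp⟩, hd⟩ := Z.2
  haveI := hfin; haveI := hflat; haveI := hfp
  let q := Z.1.subschemeι ≫ PicF.XTproj f T
  haveI : IsIso q := (Scheme.Hom.isIso_iff_finrank_eq q).2 (funext hd)
  let s := inv q ≫ Z.1.subschemeι
  have hs : s ≫ PicF.XTproj f T = 𝟙 _ := by rw [Category.assoc]; exact IsIso.inv_hom_id q
  have hx : (s ≫ pullback.fst f T.hom) ≫ f = T.hom := by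
    rw [Category.assoc, pullback.condition, ← Category.assoc, hs, Category.id_comp]
  refine ⟨s ≫ pullback.fst f T.hom, hx, ?_⟩
  have : secMor f T _ hx = s := by
    apply pullback.hom_ext
    · rw [secMor_fst]
    · rw [secMor_proj, hs]
  rw [secGraph_eq, this, Scheme.Hom.ker_comp_of_isIso, Scheme.IdealSheafData.ker_subschemeι]

theorem exists_universal_diagonal :
    ∃ Δ : HilbD.Obj f 1 (Over.mk f),
      Δ.1 = HilbD.secGraph f (Over.mk f) (𝟙 X) (Category.id_comp f) ∧
      HilbD.IsUniversal f 1 (Over.mk f) Δ := by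
  refine ⟨⟨_, isFinLocFreeOfDeg_secGraph f (Over.mk f) (𝟙 X) (Category.id_comp f)⟩, rfl, fun T Z' => ?_⟩
  obtain ⟨x, hx, hxZ⟩ := exists_secGraph_eq f Z'
  refine ⟨Over.homMk x hx, ?_, fun g hg => ?_⟩
  · exact (pull_secGraph f (Over.homMk x hx : T ⟶ Over.mk f) (𝟙 X) (Category.id_comp f) x hx
      (Category.comp_id _).symm).trans hxZ
  · refine Over.OverMorphism.ext ?_
    exact secGraph_inj f (hx := Over.w g) (hy := hx) (((pull_secGraph f g (𝟙 X) (Category.id_comp f) g.left (Over.w g)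
      (Category.comp_id _).symm).symm.trans hg).trans hxZ.symm)

end Graph

section ClosedImmersion

variable (i : X ⟶ Y) [IsClosedImmersion i] (g : Y ⟶ S)

/-- The closed immersion `X_T ⟶ Y_T`. -/
noncomputable def jT (T : Over S) : PicF.XT (i ≫ g) T ⟶ PicF.XT g T :=
  pullback.map (i ≫ g) T.hom g T.hom i (𝟙 _) (𝟙 S) (Category.comp_id _) (by simp)

theorem jT_proj (T : Over S) : jT i g T ≫ PicF.XTproj g T = PicF.XTproj (i ≫ g) T := by simp [jT]

theorem isPullback_jT (T : Over S) :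
    IsPullback (pullback.fst (i ≫ g) T.hom) (jT i g T) i (pullback.fst g T.hom) := by
  refine IsPullback.of_bot ?_ (by simp [jT]) (IsPullback.of_hasPullback g T.hom)
  rw [jT_proj]
  exact IsPullback.of_hasPullback _ _

instance (T : Over S) : IsClosedImmersion (jT i g T) :=
  MorphismProperty.of_isPullback (isPullback_jT i g T) inferInstance

theorem isPullback_XTmap_jT {T T' : Over S} (h : T' ⟶ T) :
    IsPullback (PicF.XTmap (i ≫ g) h) (jT i g T') (jT i g T) (PicF.XTmap g h) := by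
  refine IsPullback.of_bot ?_ ?_ (isPullback_XTmap g h)
  · rw [jT_proj, jT_proj]
    exact isPullback_XTmap (i ≫ g) h
  · apply pullback.hom_ext <;> simp [jT, PicF.XTmap]

theorem push_eq (T : Over S) (I : (PicF.XT (i ≫ g) T).IdealSheafData) :
    HilbD.push i g T I = I.map (jT i g T) := rfl

theorem isFinLocFreeOfDeg_push (T : Over S) (I : (PicF.XT (i ≫ g) T).IdealSheafData)
    (h : Mor2.IsFinLocFreeOfDeg d (I.subschemeι ≫ PicF.XTproj (i ≫ g) T)) :
    Mor2.IsFinLocFreeOfDeg d ((HilbD.push i g T I).subschemeι ≫ PicF.XTproj g T) := by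
  let c := I.subschemeι ≫ jT i g T
  have e : c.ker.subschemeι ≫ PicF.XTproj g T = inv c.toImage ≫ I.subschemeι ≫ PicF.XTproj (i ≫ g) T := by
    rw [← cancel_epi c.toImage, IsIso.hom_inv_id_assoc, ← Category.assoc]
    erw [c.toImage_imageι]
    rw [Category.assoc, jT_proj]
  show Mor2.IsFinLocFreeOfDeg d (c.ker.subschemeι ≫ PicF.XTproj g T)
  rw [e]
  exact isFinLocFreeOfDeg_iso_comp _ _ h

theorem pull_push {T T' : Over S} (h : T' ⟶ T) (I : (PicF.XT (i ≫ g) T).IdealSheafData) :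
    HilbD.pull g h (HilbD.push i g T I) = HilbD.push i g T' (HilbD.pull (i ≫ g) h I) := by
  rw [pull_eq, pull_eq, push_eq, push_eq]
  exact map_comap_of_isPullback (isPullback_XTmap_jT i g h) I

theorem representable_comp {H : Over S} {Z : HilbD.Obj g d H} (hZ : HilbD.IsUniversal g d H Z) :
    HilbD.Representable (i ≫ g) d ∧
    ∀ (H' : Over S) (Z' : HilbD.Obj (i ≫ g) d H') (_ : HilbD.IsUniversal (i ≫ g) d H' Z') (m : H' ⟶ H),
      HilbD.pull g m Z.1 = HilbD.push i g H' Z'.1 → IsClosedImmersion m.left := by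
  obtain ⟨⟨h1, h2, h3⟩, -⟩ := Z.2
  obtain ⟨𝓩, h𝓩⟩ := @exists_leLocus _ _ (PicF.XTproj g H) (jT i g H).ker Z.1 h1 h2 h3
  let H₀ : Over S := Over.mk (𝓩.subschemeι ≫ H.hom)
  let m₀ : H₀ ⟶ H := Over.homMk 𝓩.subschemeι rfl
  have hker : ∀ {T : Over S} (h : T ⟶ H), (jT i g H).ker.comap (PicF.XTmap g h) = (jT i g T).ker := by
    intro T h
    rw [← Scheme.IdealSheafData.ker_fst_of_isClosedImmersion,
      ← (isPullback_XTmap_jT i g h).flip.isoPullback_inv_fst, Scheme.Hom.ker_comp_of_isIso]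
  have key : ∀ {T : Over S} (h : T ⟶ H), 𝓩 ≤ h.left.ker ↔ (jT i g T).ker ≤ HilbD.pull g h Z.1 := by
    intro T h
    rw [h𝓩 (isPullback_XTmap g h), hker h, pull_eq]
  have hm₀ : (jT i g H₀).ker ≤ HilbD.pull g m₀ Z.1 := (key m₀).1 (by simp [m₀])
  have hobj : Mor2.IsFinLocFreeOfDeg d
      (((HilbD.pull g m₀ Z.1).comap (jT i g H₀)).subschemeι ≫ PicF.XTproj (i ≫ g) H₀) := by
    have hp := isFinLocFreeOfDeg_pull g m₀ Z.1 Z.2
    rw [← map_comap_eq (jT i g H₀) _ hm₀] at hp
    let c := ((HilbD.pull g m₀ Z.1).comap (jT i g H₀)).subschemeι ≫ jT i g H₀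
    have e : ((HilbD.pull g m₀ Z.1).comap (jT i g H₀)).subschemeι ≫ PicF.XTproj (i ≫ g) H₀ =
        c.toImage ≫ c.ker.subschemeι ≫ PicF.XTproj g H₀ := by
      rw [← Category.assoc c.toImage]
      erw [c.toImage_imageι]
      rw [Category.assoc, jT_proj]
    rw [e]
    exact isFinLocFreeOfDeg_iso_comp _ _ hp
  let Z₀ : HilbD.Obj (i ≫ g) d H₀ := ⟨_, hobj⟩
  have hpush : HilbD.push i g H₀ Z₀.1 = HilbD.pull g m₀ Z.1 := map_comap_eq _ _ hm₀
  have hZ₀ : HilbD.IsUniversal (i ≫ g) d H₀ Z₀ := by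
    intro T Z'
    obtain ⟨h, hh, huniq⟩ := hZ T ⟨_, isFinLocFreeOfDeg_push i g T Z'.1 Z'.2⟩
    dsimp only at hh huniq
    have hfac : 𝓩 ≤ h.left.ker := by
      rw [key h, hh, push_eq, Scheme.IdealSheafData.map, Scheme.Hom.ker_comp]
      exact (Scheme.IdealSheafData.map_bot (jT i g T)).symm.le.trans (Scheme.IdealSheafData.map_mono _ bot_le)
    obtain ⟨t, ht⟩ := (Groth.L02.SchDom.exists_factor_iff_ker_le 𝓩.subschemeι h.left).2
      (by rw [Scheme.IdealSheafData.ker_subschemeι]; exact hfac)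
    let t' : T ⟶ H₀ := Over.homMk t (by
      show t ≫ 𝓩.subschemeι ≫ H.hom = _
      rw [reassoc_of% ht]; exact Over.w h)
    have ht' : t' ≫ m₀ = h := Over.OverMorphism.ext ht
    refine ⟨t', ?_, fun s hs => ?_⟩
    · show HilbD.pull (i ≫ g) t' Z₀.1 = Z'.1
      rw [← comap_map_eq (jT i g T) Z'.1, ← push_eq, ← hh, ← ht', pull_comp, ← hpush, pull_push, push_eq,
        comap_map_eq]
    · have hsm : s ≫ m₀ = h := huniq _ (by rw [pull_comp, ← hpush, pull_push, hs])
      haveI : Mono m₀.left := inferInstanceAs (Mono 𝓩.subschemeι)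
      exact Over.OverMorphism.ext ((cancel_mono m₀.left).1 (congrArg CommaMorphism.left (hsm.trans ht'.symm)))
  refine ⟨⟨H₀, Z₀, hZ₀⟩, fun H' Z' hZ' m hm => ?_⟩
  obtain ⟨e, he⟩ := exists_iso_of_isUniversal (i ≫ g) hZ₀ hZ'
  have : m = e.hom ≫ m₀ := hom_ext_of_isUniversal g hZ _ _ (by rw [hm, pull_comp, ← hpush, pull_push, he])
  rw [this]
  haveI : IsIso e.hom.left := inferInstanceAs (IsIso ((Over.forget S).map e.hom))
  haveI : IsClosedImmersion m₀.left := inferInstanceAs (IsClosedImmersion 𝓩.subschemeι)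
  rw [Over.comp_left]
  infer_instance

end ClosedImmersion

end Groth.L02.Hilb
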