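import Mathlib.RingTheory.TensorProduct.Maps
import Mathlib.RingTheory.Ideal.Quotient.Operations
import Mathlib.RingTheory.MvPolynomial.Basic
import Mathlib.Algebra.MvPolynomial.CommRing

/-!
Coordinates of quotient algebras of `A ⊗ B` with a prescribed basis.
-/

set_option autoImplicit false
set_option linter.style.haveILetI false

universe u

open scoped TensorProduct

noncomputable section

namespace Groth.L02.Hilb

variable (R B : Type u) [CommRing R] [CommRing B] [Algebra R B] {d : ℕ} (s : Fin d → B)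
  (A : Type u) [CommRing A] [Algebra R A]

/-- Coordinates making the `s i` a basis of a quotient algebra of `A ⊗ B`. -/
structure Coord where
  /-- the coordinates of the image of an element -/
  c : B →ₗ[R] (Fin d → A)
  basis : ∀ i j, c (s i) j = if i = j then 1 else 0
  mul : ∀ b b' j, c (b * b') j = ∑ i, c b i * c (b' * s i) j

namespace Coord

variable {R B s A}

@[ext] theorem ext' {x y : Coord R B s A} (h : ∀ b j, x.c b j = y.c b j) : x = y := by
  obtain ⟨c, _, _⟩ := x
  obtain ⟨c', _, _⟩ := y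
  obtain rfl : c = c' := LinearMap.ext fun b => funext (h b)
  rfl

variable (x : Coord R B s A)

/-- The linear coordinates on `A ⊗ B`. -/
def ext : A ⊗[R] B →ₗ[A] (Fin d → A) := x.c.liftBaseChange A

theorem ext_tmul (a : A) (b : B) : x.ext (a ⊗ₜ b) = a • x.c b := by simp [ext]

variable (s) in
/-- The section of the coordinates. -/
def sec (v : Fin d → A) : A ⊗[R] B := ∑ i, v i ⊗ₜ s i

/-- The relations. -/
def ideal : Ideal (A ⊗[R] B) := Ideal.span (Set.range fun b : B => (1 : A) ⊗ₜ[R] b - sec s (x.c b))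

theorem ext_sec (v : Fin d → A) : x.ext (sec s v) = v := by
  funext j
  simp [sec, ext_tmul, x.basis, Finset.sum_apply, Finset.sum_ite_eq']

theorem ext_mul_one (b' : B) (t : A ⊗[R] B) (j : Fin d) :
    x.ext (t * (1 ⊗ₜ b')) j = ∑ i, x.ext t i * x.c (b' * s i) j := by
  induction t using TensorProduct.induction_on with
  | zero => simp
  | tmul a b =>
    rw [Algebra.TensorProduct.tmul_mul_tmul, mul_one, ext_tmul, ext_tmul, Pi.smul_apply, x.mul, Finset.smul_sum]
    simp [smul_eq_mul, mul_assoc]
  | add u v hu hv => simp [add_mul, map_add, hu, hv, Finset.sum_add_distrib]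

theorem ext_mul_eq_zero {t : A ⊗[R] B} (ht : x.ext t = 0) (u : A ⊗[R] B) : x.ext (t * u) = 0 := by
  induction u using TensorProduct.induction_on with
  | zero => simp
  | tmul a b =>
    have h1 : t * (a ⊗ₜ b) = a • (t * (1 ⊗ₜ b)) := by
      rw [← mul_smul_comm, TensorProduct.smul_tmul', smul_eq_mul, mul_one]
    rw [h1, map_smul]
    have h2 : x.ext (t * (1 ⊗ₜ b)) = 0 := funext fun j => by rw [ext_mul_one, ht]; simp
    rw [h2, smul_zero]
  | add u v hu hv => rw [mul_add, map_add, hu, hv, add_zero]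

theorem sub_sec_mem (t : A ⊗[R] B) : t - sec s (x.ext t) ∈ x.ideal := by
  induction t using TensorProduct.induction_on with
  | zero => simp [sec]
  | tmul a b =>
    have : a ⊗ₜ[R] b - sec s (x.ext (a ⊗ₜ b)) = (a ⊗ₜ[R] (1 : B)) * ((1 : A) ⊗ₜ[R] b - sec s (x.c b)) := by
      simp [sec, ext_tmul, mul_sub, Finset.mul_sum, Algebra.TensorProduct.tmul_mul_tmul]
    rw [this]
    exact Ideal.mul_mem_left _ _ (Ideal.subset_span ⟨b, rfl⟩)
  | add u v hu hv =>
    have : u + v - sec s (x.ext (u + v)) = (u - sec s (x.ext u)) + (v - sec s (x.ext v)) := by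
      simp [sec, TensorProduct.add_tmul, Finset.sum_add_distrib]
      abel
    rw [this]
    exact add_mem hu hv

theorem mem_ideal_iff (t : A ⊗[R] B) : t ∈ x.ideal ↔ x.ext t = 0 := by
  constructor
  · intro ht
    induction ht using Submodule.span_induction with
    | mem y hy =>
      obtain ⟨b, rfl⟩ := hy
      rw [map_sub, ext_sec, ext_tmul, one_smul, sub_self]
    | zero => simp
    | add u v _ _ hu hv => rw [map_add, hu, hv, add_zero]
    | smul r v _ hv => rw [smul_eq_mul, mul_comm]; exact x.ext_mul_eq_zero hv r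
  · intro ht
    have := x.sub_sec_mem t
    rwa [ht, show sec s (0 : Fin d → A) = (0 : A ⊗[R] B) by simp [sec], sub_zero] at this

theorem eq_of_ideal_le {x y : Coord R B s A} (h : x.ideal ≤ y.ideal) : x = y := by
  refine ext' fun b j => ?_
  have h1 := (mem_ideal_iff y _).1 (h (Ideal.subset_span ⟨b, rfl⟩))
  rw [map_sub, ext_sec, ext_tmul, one_smul, sub_eq_zero] at h1
  rw [h1]

/-- The basis of the quotient. -/
def quotEquiv : ((A ⊗[R] B) ⧸ x.ideal) ≃ₗ[A] (Fin d → A) :=
  LinearEquiv.ofBijective
    ((x.ideal.restrictScalars A).liftQ x.ext (fun t ht => (x.mem_ideal_iff t).1 ht) ∘ₗ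
      (Submodule.Quotient.restrictScalarsEquiv A x.ideal).symm.toLinearMap)
    ⟨by
      rw [injective_iff_map_eq_zero]
      intro q hq
      obtain ⟨t, rfl⟩ := Ideal.Quotient.mk_surjective q
      exact Ideal.Quotient.eq_zero_iff_mem.2 ((x.mem_ideal_iff t).2 hq),
    fun v => ⟨Ideal.Quotient.mk _ (sec s v), x.ext_sec v⟩⟩

/-- Coordinates of a quotient with a basis. -/
theorem exists_of_bijective (K : Ideal (A ⊗[R] B))
    (h : Function.Bijective fun v : Fin d → A => Ideal.Quotient.mk K (sec s v)) :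
    ∃ x : Coord R B s A, x.ideal = K := by
  let ψ : (Fin d → A) →ₗ[A] (A ⊗[R] B) ⧸ K :=
    (Fintype.linearCombination A fun i => Ideal.Quotient.mk K ((1 : A) ⊗ₜ[R] s i))
  have hψ : ∀ v, ψ v = Ideal.Quotient.mk K (sec s v) := fun v => by
    simp only [ψ, Fintype.linearCombination_apply, sec, map_sum]
    refine Finset.sum_congr rfl fun i _ => ?_
    rw [← Ideal.Quotient.mkₐ_eq_mk A, ← map_smul, TensorProduct.smul_tmul', smul_eq_mul, mul_one]
  have hb : Function.Bijective ψ := by rw [show (ψ : _ → _) = _ from funext hψ]; exact h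
  let e := LinearEquiv.ofBijective ψ hb
  let π : B →ₗ[R] (A ⊗[R] B) ⧸ K :=
    ((Ideal.Quotient.mkₐ R K).comp Algebra.TensorProduct.includeRight).toLinearMap
  let c : B →ₗ[R] (Fin d → A) := (e.symm.toLinearMap.restrictScalars R) ∘ₗ π
  have hc : ∀ b, Ideal.Quotient.mk K (sec s (c b)) = Ideal.Quotient.mk K ((1 : A) ⊗ₜ[R] b) := fun b => by
    rw [← hψ]
    exact e.apply_symm_apply _
  have hsingle : ∀ i, sec s (Pi.single i (1 : A)) = (1 : A) ⊗ₜ[R] s i := fun i => by
    rw [sec, Finset.sum_eq_single i]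
    · simp
    · intro k _ hk; simp [hk]
    · simp
  have hbasis : ∀ i j, c (s i) j = if i = j then 1 else 0 := fun i j => by
    have : c (s i) = Pi.single i 1 := h.1 (show Ideal.Quotient.mk K _ = Ideal.Quotient.mk K _ by rw [hc, hsingle])
    rw [this, Pi.single_apply]
    exact if_congr eq_comm rfl rfl
  have hmul : ∀ b b' j, c (b * b') j = ∑ i, c b i * c (b' * s i) j := fun b b' j => by
    have : c (b * b') = ∑ i, c b i • c (b' * s i) := by
      refine e.injective ?_
      show ψ _ = ψ _
      rw [map_sum]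
      simp only [map_smul]
      simp only [hψ, hc]
      have h1 : Ideal.Quotient.mk K ((1 : A) ⊗ₜ[R] (b * b')) =
          Ideal.Quotient.mk K (sec s (c b) * ((1 : A) ⊗ₜ[R] b')) := by
        rw [map_mul, hc, ← map_mul, Algebra.TensorProduct.tmul_mul_tmul, one_mul]
      rw [h1, sec, Finset.sum_mul, map_sum]
      refine Finset.sum_congr rfl fun i _ => ?_
      rw [← Ideal.Quotient.mkₐ_eq_mk A, ← map_smul, Algebra.TensorProduct.tmul_mul_tmul, TensorProduct.smul_tmul',
        smul_eq_mul, mul_one, mul_comm b']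
    rw [this, Finset.sum_apply]
    rfl
  let x : Coord R B s A := ⟨c, hbasis, hmul⟩
  refine ⟨x, ?_⟩
  · refine le_antisymm (Ideal.span_le.2 ?_) fun t ht => ?_
    · rintro _ ⟨b, rfl⟩
      exact Ideal.Quotient.eq.1 (hc b).symm
    · rw [mem_ideal_iff]
      refine h.1 ?_
      show Ideal.Quotient.mk K _ = Ideal.Quotient.mk K _
      rw [show sec s (0 : Fin d → A) = (0 : A ⊗[R] B) by simp [sec], map_zero]
      have h1 : ∀ t, Ideal.Quotient.mk K (sec s (LinearMap.liftBaseChange A c t)) = Ideal.Quotient.mk K t := fun t => by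
        induction t using TensorProduct.induction_on with
        | zero => simp [sec]
        | tmul a b =>
          rw [LinearMap.liftBaseChange_tmul, ← hψ, map_smul, hψ, hc, ← Ideal.Quotient.mkₐ_eq_mk A, ← map_smul,
            TensorProduct.smul_tmul', smul_eq_mul, mul_one]
        | add u v hu hv =>
          rw [map_add, map_add, ← hu, ← hv, ← map_add]
          simp [sec, TensorProduct.add_tmul, Finset.sum_add_distrib]
      exact (h1 t).trans (Ideal.Quotient.eq_zero_iff_mem.2 ht)

/-- Base change of coordinates. -/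
def push {A' : Type u} [CommRing A'] [Algebra R A'] (φ : A →ₐ[R] A') : Coord R B s A' where
  c := φ.toLinearMap.compLeft (Fin d) ∘ₗ x.c
  basis i j := by
    show φ (x.c (s i) j) = _
    rw [x.basis]
    split_ifs <;> simp
  mul b b' j := by
    show φ (x.c (b * b') j) = _
    rw [x.mul, map_sum]
    exact Finset.sum_congr rfl fun i _ => map_mul φ _ _

@[simp] theorem push_c {A' : Type u} [CommRing A'] [Algebra R A'] (φ : A →ₐ[R] A') (b : B) (j : Fin d) :
    (x.push φ).c b j = φ (x.c b j) := rfl

theorem map_ideal {A' : Type u} [CommRing A'] [Algebra R A'] (φ : A →ₐ[R] A') :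
    x.ideal.map (Algebra.TensorProduct.map φ (AlgHom.id R B)).toRingHom = (x.push φ).ideal := by
  rw [ideal, ideal, Ideal.map_span, ← Set.range_comp]
  refine congrArg Ideal.span (congrArg Set.range (funext fun b => ?_))
  simp [sec, map_sum]

end Coord

/-- The relations of the coordinate ring. -/
def chartRel : Ideal (MvPolynomial (B × Fin d) R) :=
  Ideal.span
    ((Set.range fun p : B × B × Fin d => (MvPolynomial.X (p.1 + p.2.1, p.2.2) -
        (MvPolynomial.X (p.1, p.2.2) + MvPolynomial.X (p.2.1, p.2.2)) : MvPolynomial (B × Fin d) R)) ∪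
    (Set.range fun p : R × B × Fin d => (MvPolynomial.X (p.1 • p.2.1, p.2.2) -
        MvPolynomial.C p.1 * MvPolynomial.X (p.2.1, p.2.2) : MvPolynomial (B × Fin d) R)) ∪
    (Set.range fun p : Fin d × Fin d => (MvPolynomial.X (s p.1, p.2) -
        (if p.1 = p.2 then 1 else 0) : MvPolynomial (B × Fin d) R)) ∪
    Set.range fun p : B × B × Fin d => (MvPolynomial.X (p.1 * p.2.1, p.2.2) -
        ∑ i, MvPolynomial.X (p.1, i) * MvPolynomial.X (p.2.1 * s i, p.2.2) : MvPolynomial (B × Fin d) R))

/-- The coordinate ring. -/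
abbrev ChartRing : Type u := MvPolynomial (B × Fin d) R ⧸ chartRel R B s

/-- The universal coordinates. -/
def univCoord : Coord R B s (ChartRing R B s) where
  c :=
    { toFun := fun b j => Ideal.Quotient.mk _ (MvPolynomial.X (b, j))
      map_add' := fun b b' => funext fun j => by
        show _ = Ideal.Quotient.mk (chartRel R B s) _ + Ideal.Quotient.mk (chartRel R B s) _
        rw [← map_add, Ideal.Quotient.eq]
        exact Ideal.subset_span (Or.inl (Or.inl (Or.inl ⟨(b, b', j), rfl⟩)))
      map_smul' := fun r b => funext fun j => by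
        show _ = r • Ideal.Quotient.mk (chartRel R B s) _
        rw [← Ideal.Quotient.mkₐ_eq_mk R, ← map_smul, Ideal.Quotient.mkₐ_eq_mk, Ideal.Quotient.eq,
          MvPolynomial.smul_eq_C_mul]
        exact Ideal.subset_span (Or.inl (Or.inl (Or.inr ⟨(r, b, j), rfl⟩))) }
  basis i j := by
    show Ideal.Quotient.mk (chartRel R B s) (MvPolynomial.X (s i, j)) = _
    have h : Ideal.Quotient.mk (chartRel R B s) (MvPolynomial.X (s i, j)) =
        Ideal.Quotient.mk (chartRel R B s) (if i = j then 1 else 0) :=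
      Ideal.Quotient.eq.2 (Ideal.subset_span (Or.inl (Or.inr ⟨(i, j), rfl⟩)))
    rw [h]
    split_ifs <;> simp
  mul b b' j := by
    show Ideal.Quotient.mk (chartRel R B s) (MvPolynomial.X (b * b', j)) =
      ∑ i, Ideal.Quotient.mk (chartRel R B s) (MvPolynomial.X (b, i)) *
        Ideal.Quotient.mk (chartRel R B s) (MvPolynomial.X (b' * s i, j))
    simp only [← map_mul, ← map_sum]
    exact Ideal.Quotient.eq.2 (Ideal.subset_span (Or.inr ⟨(b, b', j), rfl⟩))

variable {R B s A}

theorem exists_push_univ (x : Coord R B s A) : ∃ φ : ChartRing R B s →ₐ[R] A, (univCoord R B s).push φ = x := by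
  refine ⟨Ideal.Quotient.liftₐ _ (MvPolynomial.aeval fun p => x.c p.1 p.2) ?_, Coord.ext' fun b j => ?_⟩
  · have hle : chartRel R B s ≤ RingHom.ker (MvPolynomial.aeval fun p : B × Fin d => x.c p.1 p.2).toRingHom := by
      refine Ideal.span_le.2 ?_
      rintro _ (((⟨⟨b, b', j⟩, rfl⟩ | ⟨⟨r, b, j⟩, rfl⟩) | ⟨⟨i, j⟩, rfl⟩) | ⟨⟨b, b', j⟩, rfl⟩)
      · simp [RingHom.mem_ker]
      · show (MvPolynomial.aeval fun p : B × Fin d => x.c p.1 p.2) _ = 0
        simp only [map_sub, map_mul, MvPolynomial.aeval_X, MvPolynomial.aeval_C, sub_eq_zero]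
        rw [LinearMap.map_smul, Pi.smul_apply, Algebra.smul_def]
      · by_cases hij : i = j <;> simp [RingHom.mem_ker, x.basis, hij]
      · simp [RingHom.mem_ker, x.mul b b' j]
    exact fun t ht => RingHom.mem_ker.1 (hle ht)
  · show MvPolynomial.aeval (fun p : B × Fin d => x.c p.1 p.2) (MvPolynomial.X (b, j) : MvPolynomial (B × Fin d) R) = x.c b j
    exact MvPolynomial.aeval_X _ _

theorem push_univ_inj {φ ψ : ChartRing R B s →ₐ[R] A} (h : (univCoord R B s).push φ = (univCoord R B s).push ψ) :
    φ = ψ := by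
  refine Ideal.Quotient.algHom_ext R (MvPolynomial.algHom_ext fun p => ?_)
  exact congrArg (fun x : Coord R B s A => x.c p.1 p.2) h

end Groth.L02.Hilb
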