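import Groth.Agent.L02.Hilb.ChartAlg
import Groth.Agent.L02.Hilb.Base
import Groth.Agent.L13.BlowUp.Local
import Mathlib.RingTheory.Spectrum.Prime.FreeLocus

/-!
Affine charts of the Hilbert functor of points.
-/

set_option autoImplicit false
set_option linter.style.haveILetI false
set_option backward.isDefEq.respectTransparency false
set_option backward.isDefEq.respectTransparency.types false

universe u

open CategoryTheory CategoryTheory.Limits AlgebraicGeometry TopologicalSpace
open scoped TensorProduct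
open Groth.L13.BU

noncomputable section

namespace Groth.L02.Hilb

/-- An affine piece `Spec B ⟶ Spec R` of `f` with `d` elements of `B`. -/
structure Chart {X S : Scheme.{u}} (f : X ⟶ S) (d : ℕ) where
  R : Type u
  B : Type u
  [instR : CommRing R]
  [instB : CommRing B]
  [instAlg : Algebra R B]
  i : Spec (CommRingCat.of R) ⟶ S
  j : Spec (CommRingCat.of B) ⟶ X
  [openI : IsOpenImmersion i]
  [openJ : IsOpenImmersion j]
  w : j ≫ f = Spec.map (CommRingCat.ofHom (algebraMap R B)) ≫ i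
  s : Fin d → B

attribute [instance] Chart.instR Chart.instB Chart.instAlg Chart.openI Chart.openJ

section General

theorem isPullback_compMono {P A B C D : Scheme.{u}} {fst : P ⟶ A} {snd : P ⟶ B} {f : A ⟶ C} {g : B ⟶ C}
    (h : IsPullback fst snd f g) (i : C ⟶ D) [Mono i] : IsPullback fst snd (f ≫ i) (g ≫ i) := by
  refine IsPullback.of_isLimit' ⟨by rw [reassoc_of% h.w]⟩ (PullbackCone.isLimitAux' _ fun s => ?_)
  have hs : s.fst ≫ f = s.snd ≫ g := by
    rw [← cancel_mono i, Category.assoc, Category.assoc]; exact s.condition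
  exact ⟨h.lift s.fst s.snd hs, h.lift_fst _ _ _, h.lift_snd _ _ _,
    fun h₁ h₂ => h.hom_ext (h₁.trans (h.lift_fst _ _ _).symm) (h₂.trans (h.lift_snd _ _ _).symm)⟩

variable {X Y X' P : Scheme.{u}}

theorem comap_map_eq_mono (j : X ⟶ Y) [Mono j] (I : X.IdealSheafData) [IsClosedImmersion (I.subschemeι ≫ j)] :
    (I.map j).comap j = I := by
  rw [Scheme.IdealSheafData.map, ← Scheme.IdealSheafData.ker_fst_of_isClosedImmersion]
  have h : IsPullback I.subschemeι (𝟙 _) j (I.subschemeι ≫ j) :=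
    IsPullback.of_isLimit' ⟨by simp⟩ (PullbackCone.isLimitAux' _ fun s =>
      ⟨s.snd, by rw [← cancel_mono j, Category.assoc]; exact s.condition.symm, Category.comp_id _,
        fun h₁ h₂ => by simpa using! h₂⟩)
  rw [← h.isoPullback_inv_fst, Scheme.Hom.ker_comp_of_isIso, Scheme.IdealSheafData.ker_subschemeι]

theorem map_comap_of_isPullback_mono {fst : X' ⟶ X} {j' : X' ⟶ P} {j : X ⟶ Y} {q : P ⟶ Y}
    (sq : IsPullback fst j' j q) (I : X.IdealSheafData) [IsClosedImmersion (I.subschemeι ≫ j)] :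
    (I.map j).comap q = (I.comap fst).map j' := by
  rw [Scheme.IdealSheafData.map, ← Scheme.IdealSheafData.ker_fst_of_isClosedImmersion]
  have h := isPullback_comap sq I
  rw [← h.flip.isoPullback_inv_fst, Scheme.Hom.ker_comp_of_isIso]
  rfl

theorem ker_specMap_mk {A : Type u} [CommRing A] (K : Ideal A) :
    (Spec.map (CommRingCat.ofHom (Ideal.Quotient.mk K))).ker = idealOf K := by
  refine Scheme.IdealSheafData.ext_of_isAffine ?_
  rw [idealOf_top, Scheme.ker_of_isAffine]
  simp only [Scheme.IdealSheafData.ofIdealTop_ideal]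
  rw [show ((Spec (CommRingCat.of A)).presheaf.map (homOfLE (le_refl (⊤ : (Spec (CommRingCat.of A)).Opens))).op) = 𝟙 _ from
    (congrArg (Spec (CommRingCat.of A)).presheaf.map (Subsingleton.elim _ (𝟙 _))).trans ((Spec (CommRingCat.of A)).presheaf.map_id _),
    CommRingCat.hom_id, Ideal.map_id]
  ext z
  rw [RingHom.mem_ker]
  have h := Scheme.ΓSpecIso_naturality (CommRingCat.ofHom (Ideal.Quotient.mk K))
  have h2 := congrArg (fun φ => φ.hom z) h
  let e := (Scheme.ΓSpecIso (CommRingCat.of A)).commRingCatIsoToRingEquiv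
  let e' := (Scheme.ΓSpecIso (CommRingCat.of (A ⧸ K))).commRingCatIsoToRingEquiv
  have h3 : e' ((Spec.map (CommRingCat.ofHom (Ideal.Quotient.mk K))).appTop z) = Ideal.Quotient.mk K (e z) := h2
  have hm : z ∈ K.map (Scheme.ΓSpecIso (CommRingCat.of A)).inv.hom ↔ e z ∈ K := by
    show z ∈ K.map e.symm ↔ _
    rw [Ideal.map_symm, Ideal.mem_comap]
  rw [hm, ← Ideal.Quotient.eq_zero_iff_mem, ← h3]
  exact e'.map_eq_zero_iff.symm

theorem exists_iso_spec_mk {A : Type u} [CommRing A] (K : Ideal A) :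
    ∃ e : Spec (CommRingCat.of (A ⧸ K)) ≅ (idealOf K).subscheme,
      e.hom ≫ (idealOf K).subschemeι = Spec.map (CommRingCat.ofHom (Ideal.Quotient.mk K)) := by
  haveI : IsClosedImmersion (Spec.map (CommRingCat.ofHom (Ideal.Quotient.mk K))) :=
    IsClosedImmersion.spec_of_surjective _ Ideal.Quotient.mk_surjective
  rw [← ker_specMap_mk K]
  exact ⟨asIso (Spec.map (CommRingCat.ofHom (Ideal.Quotient.mk K))).toImage, Scheme.Hom.toImage_imageι _⟩

theorem idealOf_injective {A : Type u} [CommRing A] {K K' : Ideal A} (h : idealOf K = idealOf K') : K = K' := by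
  have := congrArg (fun I : Scheme.IdealSheafData _ => I.ideal ⟨⊤, isAffineOpen_top _⟩) h
  simp only [idealOf_top] at this
  exact Groth.L22.Ideals.map_hom_inj (Scheme.ΓSpecIso (CommRingCat.of A)).symm this

theorem idealOf_comap {A B : Type u} [CommRing A] [CommRing B] (φ : A →+* B) (K : Ideal A) :
    (idealOf K).comap (Spec.map (CommRingCat.ofHom φ)) = idealOf (K.map φ) := by
  refine Scheme.IdealSheafData.ext_of_isAffine ?_
  rw [comap_SpecMap, idealOf_top]

end General

namespace Chart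

variable {X S : Scheme.{u}} {f : X ⟶ S} {d : ℕ} (c : Chart f d)

/-- `Spec A` over `S`. -/
abbrev over (A : Type u) [CommRing A] [Algebra c.R A] : Over S :=
  Over.mk (Spec.map (CommRingCat.ofHom (algebraMap c.R A)) ≫ c.i)

/-- A map of algebras as a map over `S`. -/
def overMap {A A' : Type u} [CommRing A] [Algebra c.R A] [CommRing A'] [Algebra c.R A'] (φ : A →ₐ[c.R] A') :
    c.over A' ⟶ c.over A :=
  Over.homMk (Spec.map (CommRingCat.ofHom φ.toRingHom)) (by
    simp only [Over.mk_hom, ← Category.assoc, ← Spec.map_comp]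
    congr 2
    ext a
    exact φ.commutes a)

variable (A : Type u) [CommRing A] [Algebra c.R A]

/-- `Spec (A ⊗ B) ⟶ Spec B`. -/
def inclB : Spec (CommRingCat.of (A ⊗[c.R] c.B)) ⟶ Spec (CommRingCat.of c.B) :=
  Spec.map (CommRingCat.ofHom (Algebra.TensorProduct.includeRight : c.B →ₐ[c.R] A ⊗[c.R] c.B).toRingHom)

/-- `Spec (A ⊗ B) ⟶ Spec A`. -/
def inclA : Spec (CommRingCat.of (A ⊗[c.R] c.B)) ⟶ Spec (CommRingCat.of A) :=
  Spec.map (CommRingCat.ofHom (algebraMap A (A ⊗[c.R] c.B)))

theorem isPullback_incl : IsPullback (c.inclB A) (c.inclA A) (c.j ≫ f) (c.over A).hom := by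
  rw [c.w]
  refine isPullback_compMono ?_ c.i
  refine ((IsPullback.of_hasPullback (Spec.map (CommRingCat.ofHom (algebraMap c.R A)))
    (Spec.map (CommRingCat.ofHom (algebraMap c.R c.B)))).flip).of_iso
      (pullbackSpecIso c.R A c.B) (Iso.refl _) (Iso.refl _) (Iso.refl _) ?_ ?_ ?_ ?_
  · rw [Iso.refl_hom, Category.comp_id]
    exact (pullbackSpecIso_hom_snd c.R A c.B).symm
  · rw [Iso.refl_hom, Category.comp_id]
    exact (pullbackSpecIso_hom_fst' c.R A c.B).symm
  · simp
  · simp

/-- `Spec (A ⊗ B) ⟶ X ×_S Spec A`. -/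
def μ : Spec (CommRingCat.of (A ⊗[c.R] c.B)) ⟶ PicF.XT f (c.over A) :=
  pullback.lift (c.inclB A ≫ c.j) (c.inclA A) (by rw [Category.assoc]; exact (c.isPullback_incl A).w)

theorem μ_proj : c.μ A ≫ PicF.XTproj f (c.over A) = c.inclA A := pullback.lift_snd _ _ _

theorem μ_fst : c.μ A ≫ pullback.fst f (c.over A).hom = c.inclB A ≫ c.j := pullback.lift_fst _ _ _

theorem isPullback_μ : IsPullback (c.inclB A) (c.μ A) c.j (pullback.fst f (c.over A).hom) := by
  refine IsPullback.of_bot ?_ (c.μ_fst A).symm (IsPullback.of_hasPullback f (c.over A).hom)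
  rw [μ_proj]
  exact c.isPullback_incl A

instance : IsOpenImmersion (c.μ A) := MorphismProperty.of_isPullback (c.isPullback_μ A) c.openJ

theorem mem_range_μ (z : (PicF.XT f (c.over A) : Scheme.{u})) :
    z ∈ Set.range (c.μ A) ↔ pullback.fst f (c.over A).hom z ∈ Set.range c.j := by
  constructor
  · rintro ⟨w, rfl⟩
    exact ⟨c.inclB A w, by rw [← Scheme.Hom.comp_apply, ← Scheme.Hom.comp_apply, c.μ_fst]⟩
  · rintro ⟨w, hw⟩
    obtain ⟨p, hp, -⟩ := Scheme.Pullback.exists_preimage_pullback (f := pullback.fst f (c.over A).hom) (g := c.j) z w hw.symm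
    refine ⟨(c.isPullback_μ A).flip.isoPullback.inv p, ?_⟩
    rw [← Scheme.Hom.comp_apply, (c.isPullback_μ A).flip.isoPullback_inv_fst]
    exact hp

variable {A}

theorem isPullback_map {A' : Type u} [CommRing A'] [Algebra c.R A'] (φ : A →ₐ[c.R] A') :
    IsPullback (Spec.map (CommRingCat.ofHom (Algebra.TensorProduct.map φ (AlgHom.id c.R c.B)).toRingHom))
      (c.μ A') (c.μ A) (PicF.XTmap f (c.overMap φ)) := by
  have e : Spec.map (CommRingCat.ofHom (Algebra.TensorProduct.map φ (AlgHom.id c.R c.B)).toRingHom) ≫ c.inclB A =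
      c.inclB A' := by
    rw [inclB, inclB, ← Spec.map_comp]
    congr 1
    ext b
    simp
  refine IsPullback.of_right (h₁₂ := c.inclB A) ?_ ?_ (c.isPullback_μ A)
  · rw [e, XTmap_fst]
    exact c.isPullback_μ A'
  · apply pullback.hom_ext
    · rw [Category.assoc, Category.assoc, XTmap_fst, c.μ_fst, c.μ_fst, ← Category.assoc, e]
    · rw [Category.assoc, Category.assoc, c.μ_proj, XTmap_snd, ← Category.assoc, c.μ_proj]
      show Spec.map _ ≫ Spec.map _ = Spec.map _ ≫ Spec.map (CommRingCat.ofHom φ.toRingHom)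
      rw [← Spec.map_comp, ← Spec.map_comp]
      congr 1

variable [IsSeparated f] (x : Coord c.R c.B c.s A)

instance : IsClosedImmersion ((idealOf x.ideal).subschemeι ≫ c.μ A) := by
  obtain ⟨e, he⟩ := exists_iso_spec_mk x.ideal
  haveI : Module.Finite A ((A ⊗[c.R] c.B) ⧸ x.ideal) := Module.Finite.equiv x.quotEquiv.symm
  have hfin : IsFinite (((idealOf x.ideal).subschemeι ≫ c.μ A) ≫ PicF.XTproj f (c.over A)) := by
    rw [← MorphismProperty.cancel_left_of_respectsIso (P := @IsFinite) e.hom, Category.assoc, c.μ_proj,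
      reassoc_of% he, inclA, ← Spec.map_comp, IsFinite.SpecMap_iff]
    exact RingHom.finite_algebraMap.2 inferInstance
  haveI : IsProper (((idealOf x.ideal).subschemeι ≫ c.μ A) ≫ PicF.XTproj f (c.over A)) := inferInstance
  haveI : IsProper ((idealOf x.ideal).subschemeι ≫ c.μ A) :=
    IsProper.of_comp _ (PicF.XTproj f (c.over A))
  exact IsClosedImmersion.of_isPreimmersion _
    (((idealOf x.ideal).subschemeι ≫ c.μ A).isClosedMap.isClosed_range)

/-- The family attached to coordinates. -/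
def famIdeal : (PicF.XT f (c.over A)).IdealSheafData := (idealOf x.ideal).map (c.μ A)

theorem famIdeal_comap : (c.famIdeal x).comap (c.μ A) = idealOf x.ideal := comap_map_eq_mono _ _

theorem famIdeal_injective {y : Coord c.R c.B c.s A} (h : c.famIdeal x = c.famIdeal y) : x = y :=
  Coord.eq_of_ideal_le (idealOf_injective (by rw [← c.famIdeal_comap x, h, c.famIdeal_comap])).le

theorem pull_famIdeal {A' : Type u} [CommRing A'] [Algebra c.R A'] (φ : A →ₐ[c.R] A') :
    HilbD.pull f (c.overMap φ) (c.famIdeal x) = c.famIdeal (x.push φ) := by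
  rw [pull_eq, famIdeal, famIdeal, map_comap_of_isPullback_mono (c.isPullback_map φ), idealOf_comap,
    Coord.map_ideal]

theorem isFinLocFreeOfDeg_famIdeal :
    Mor2.IsFinLocFreeOfDeg d ((c.famIdeal x).subschemeι ≫ PicF.XTproj f (c.over A)) := by
  obtain ⟨e, he⟩ := exists_iso_spec_mk x.ideal
  let κ := (idealOf x.ideal).subschemeι ≫ c.μ A
  have h1 : (c.famIdeal x).subschemeι ≫ PicF.XTproj f (c.over A) =
      inv κ.toImage ≫ e.inv ≫ Spec.map (CommRingCat.ofHom (algebraMap A ((A ⊗[c.R] c.B) ⧸ x.ideal))) := by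
    rw [← cancel_epi κ.toImage, IsIso.hom_inv_id_assoc, ← cancel_epi e.hom, Iso.hom_inv_id_assoc,
      ← Category.assoc κ.toImage]
    erw [κ.toImage_imageι]
    rw [Category.assoc, c.μ_proj, reassoc_of% he, inclA, ← Spec.map_comp]
    rfl
  rw [h1]
  haveI : Module.Finite A ((A ⊗[c.R] c.B) ⧸ x.ideal) := Module.Finite.equiv x.quotEquiv.symm
  haveI : Module.Free A ((A ⊗[c.R] c.B) ⧸ x.ideal) := Module.Free.of_equiv x.quotEquiv.symm
  haveI : Module.FinitePresentation A ((A ⊗[c.R] c.B) ⧸ x.ideal) := Module.finitePresentation_of_projective _ _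
  refine isFinLocFreeOfDeg_iso_comp _ _ (isFinLocFreeOfDeg_iso_comp _ _ ⟨⟨?_, ?_, ?_⟩, fun y => ?_⟩)
  · rw [IsFinite.SpecMap_iff]; exact RingHom.finite_algebraMap.2 inferInstance
  · rw [HasRingHomProperty.Spec_iff (P := @Flat)]; exact RingHom.flat_algebraMap_iff.2 inferInstance
  · rw [HasRingHomProperty.Spec_iff (P := @LocallyOfFinitePresentation)]
    exact RingHom.finitePresentation_algebraMap.2 (Algebra.FinitePresentation.of_finitePresentation A _)
  · haveI : Nontrivial A := PrimeSpectrum.nonempty_iff_nontrivial.1 ⟨y⟩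
    rw [Scheme.Hom.finrank_SpecMap_algebraMap, Module.rankAtStalk_eq_finrank_of_free]
    show Module.finrank A _ = d
    rw [x.quotEquiv.finrank_eq, Module.finrank_fin_fun]

theorem exists_coord (I : (PicF.XT f (c.over A)).IdealSheafData)
    (hI : Mor2.IsFinLocFreeOfDeg d (I.subschemeι ≫ PicF.XTproj f (c.over A)))
    (hr : Set.range I.subschemeι ⊆ Set.range (c.μ A)) :
    ∃ K : Ideal (A ⊗[c.R] c.B), Module.Finite A ((A ⊗[c.R] c.B) ⧸ K) ∧ Module.Projective A ((A ⊗[c.R] c.B) ⧸ K) ∧
      (∀ p, Module.rankAtStalk (R := A) ((A ⊗[c.R] c.B) ⧸ K) p = d) ∧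
      (Function.Surjective (fun v : Fin d → A => Ideal.Quotient.mk K (Coord.sec c.s v)) →
        ∃ x : Coord c.R c.B c.s A, c.famIdeal x = I) ∧
      I.comap (c.μ A) = idealOf K := by
  let l := IsOpenImmersion.lift (c.μ A) I.subschemeι hr
  have hl : l ≫ c.μ A = I.subschemeι := IsOpenImmersion.lift_fac _ _ _
  haveI : IsClosedImmersion (l ≫ c.μ A) := by rw [hl]; infer_instance
  haveI : IsClosedImmersion l := IsClosedImmersion.of_comp l (c.μ A)
  obtain ⟨K, e, he⟩ := (IsClosedImmersion.Spec_iff (R := CommRingCat.of (A ⊗[c.R] c.B))).1 (show IsClosedImmersion l from inferInstance)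
  have hker : l.ker = idealOf K := by rw [he, Scheme.Hom.ker_comp_of_isIso, ker_specMap_mk]
  haveI hcl : IsClosedImmersion (l.ker.subschemeι ≫ c.μ A) := by
    rw [← MorphismProperty.cancel_left_of_respectsIso (P := @IsClosedImmersion) l.toImage, ← Category.assoc]
    erw [l.toImage_imageι]
    rw [hl]; infer_instance
  have hImap : I = l.ker.map (c.μ A) := by
    rw [Scheme.IdealSheafData.map_ker, hl, Scheme.IdealSheafData.ker_subschemeι]
  have hcomap : I.comap (c.μ A) = idealOf K := by rw [hImap, comap_map_eq_mono, hker]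
  have hq : Spec.map (CommRingCat.ofHom (algebraMap A ((A ⊗[c.R] c.B) ⧸ K))) =
      e.inv ≫ I.subschemeι ≫ PicF.XTproj f (c.over A) := by
    rw [← hl, Category.assoc, c.μ_proj, he, Category.assoc, Iso.inv_hom_id_assoc, inclA, ← Spec.map_comp]
    rfl
  have hd := isFinLocFreeOfDeg_iso_comp e.inv _ hI
  rw [← hq] at hd
  obtain ⟨⟨hfin, hflat, hfp⟩, hrank⟩ := hd
  haveI := hfin; haveI := hflat
  haveI hMF : Module.Finite A ((A ⊗[c.R] c.B) ⧸ K) :=
    RingHom.finite_algebraMap.1 ((IsFinite.SpecMap_iff _).1 hfin)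
  haveI hMFlat : Module.Flat A ((A ⊗[c.R] c.B) ⧸ K) :=
    RingHom.flat_algebraMap_iff.1 ((HasRingHomProperty.Spec_iff (P := @Flat)).1 hflat)
  haveI : Algebra.FinitePresentation A ((A ⊗[c.R] c.B) ⧸ K) :=
    RingHom.finitePresentation_algebraMap.1
      ((HasRingHomProperty.Spec_iff (P := @LocallyOfFinitePresentation)).1 hfp)
  haveI := Module.FinitePresentation.of_finite_of_finitePresentation (R := A) (S := (A ⊗[c.R] c.B) ⧸ K)
  haveI hproj : Module.Projective A ((A ⊗[c.R] c.B) ⧸ K) := Module.Flat.projective_of_finitePresentation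
  have hr' : ∀ p, Module.rankAtStalk (R := A) ((A ⊗[c.R] c.B) ⧸ K) p = d := fun p => by
    rw [← Scheme.Hom.finrank_SpecMap_algebraMap]
    exact hrank p
  refine ⟨K, hMF, hproj, hr', fun hs => ?_, hcomap⟩
  let ψ : (Fin d → A) →ₗ[A] (A ⊗[c.R] c.B) ⧸ K :=
    { toFun := fun v => Ideal.Quotient.mk K (Coord.sec c.s v)
      map_add' := fun v w => by simp [Coord.sec, TensorProduct.add_tmul, Finset.sum_add_distrib]
      map_smul' := fun a v => by
        rw [RingHom.id_apply, ← Ideal.Quotient.mkₐ_eq_mk A, ← map_smul]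
        simp [Coord.sec, Finset.smul_sum, TensorProduct.smul_tmul'] }
  obtain ⟨σ, hσ⟩ := Module.projective_lifting_property ψ LinearMap.id hs
  have hψσ : ∀ y, ψ (σ y) = y := fun y => LinearMap.congr_fun hσ y
  let π : (Fin d → A) →ₗ[A] LinearMap.ker ψ := (LinearMap.id - σ ∘ₗ ψ).codRestrict (LinearMap.ker ψ) fun v => by
    rw [LinearMap.mem_ker]
    show ψ (v - σ (ψ v)) = 0
    rw [map_sub, hψσ, sub_self]
  have hπ : ∀ z : LinearMap.ker ψ, π z.1 = z := fun z => Subtype.ext (by
    show z.1 - σ (ψ z.1) = z.1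
    rw [LinearMap.mem_ker.1 z.2, map_zero, sub_zero])
  haveI : Module.Finite A (LinearMap.ker ψ) := Module.Finite.of_surjective π fun z => ⟨z.1, hπ z⟩
  let E : (Fin d → A) ≃ₗ[A] (LinearMap.ker ψ) × ((A ⊗[c.R] c.B) ⧸ K) :=
    LinearEquiv.ofBijective (π.prod ψ)
      ⟨fun v w h => by
        have h1 : v - σ (ψ v) = w - σ (ψ w) := congrArg (fun z => (z.1 : Fin d → A)) h
        have h2 : ψ v = ψ w := congrArg Prod.snd h
        rwa [h2, sub_left_inj] at h1,
      fun z => ⟨z.1.1 + σ z.2, by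
        have h1 : ψ (z.1.1 + σ z.2) = z.2 := by rw [map_add, LinearMap.mem_ker.1 z.1.2, hψσ, zero_add]
        refine Prod.ext (Subtype.ext ?_) h1
        show z.1.1 + σ z.2 - σ (ψ (z.1.1 + σ z.2)) = z.1.1
        rw [h1, add_sub_cancel_right]⟩⟩
  haveI : Module.Projective A (LinearMap.ker ψ) :=
    Module.Projective.of_split (LinearMap.ker ψ).subtype π (LinearMap.ext hπ)
  haveI : Module.FinitePresentation A (LinearMap.ker ψ) := Module.finitePresentation_of_projective _ _
  have h0 : Module.rankAtStalk (R := A) (LinearMap.ker ψ) = 0 := funext fun p => by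
    haveI : Nontrivial A := PrimeSpectrum.nonempty_iff_nontrivial.1 ⟨p⟩
    have h2 := congrFun (Module.rankAtStalk_eq_of_equiv E) p
    rw [Module.rankAtStalk_prod, Pi.add_apply, hr' p, Module.rankAtStalk_eq_finrank_of_free] at h2
    simp only [Pi.natCast_def, Module.finrank_fin_fun, Nat.cast_id] at h2
    show _ = (0 : ℕ)
    omega
  haveI := (Module.rankAtStalk_eq_zero_iff_subsingleton (R := A) (M := LinearMap.ker ψ)).1 h0
  have hinj : Function.Injective ψ := LinearMap.ker_eq_bot.1 (Submodule.eq_bot_of_subsingleton)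
  obtain ⟨x, hx⟩ := Coord.exists_of_bijective K (show Function.Bijective fun v : Fin d → A => Ideal.Quotient.mk K
    (Coord.sec c.s v) from ⟨hinj, hs⟩)
  refine ⟨x, ?_⟩
  rw [famIdeal, hx, ← hker, ← hImap]

end Chart

end Groth.L02.Hilb
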