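import Groth.Agent.L02.Hilb.ChartGeom
import Mathlib.RingTheory.Support
import Mathlib.RingTheory.Localization.Away.Basic
import Mathlib.RingTheory.LocalRing.ResidueField.Ideal
import Mathlib.RingTheory.LocalRing.ResidueField.Fiber
import Mathlib.RingTheory.Spectrum.Prime.FreeLocus

/-!
Local algebra for the charts: where the prescribed elements form a basis.
-/

set_option autoImplicit false
set_option linter.style.haveILetI false

universe u

open scoped TensorProduct

noncomputable section

namespace Groth.L02.Hilb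

variable {R B : Type u} [CommRing R] [CommRing B] [Algebra R B] {d : ℕ}
variable {A : Type u} [CommRing A] [Algebra R A]

/-- The part of `A ⊗ B` reached by the prescribed elements and the ideal. -/
def reach (s : Fin d → B) (K : Ideal (A ⊗[R] B)) : Submodule A (A ⊗[R] B) :=
  Submodule.span A (Set.range fun i => (1 : A) ⊗ₜ[R] s i) ⊔ K.restrictScalars A

variable {s : Fin d → B} {K : Ideal (A ⊗[R] B)}

theorem sec_mem_reach (v : Fin d → A) : Coord.sec s v ∈ reach s K := by
  refine Submodule.mem_sup_left (Submodule.sum_mem _ fun i _ => ?_)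
  have : v i ⊗ₜ[R] s i = v i • ((1 : A) ⊗ₜ[R] s i) := by rw [TensorProduct.smul_tmul', smul_eq_mul, mul_one]
  rw [this]
  exact Submodule.smul_mem _ _ (Submodule.subset_span ⟨i, rfl⟩)

theorem exists_sec_of_mem_reach {t : A ⊗[R] B} (ht : t ∈ reach s K) :
    ∃ v, Ideal.Quotient.mk K (Coord.sec s v) = Ideal.Quotient.mk K t := by
  obtain ⟨a, ha, b, hb, rfl⟩ := Submodule.mem_sup.1 ht
  obtain ⟨v, rfl⟩ := (Submodule.mem_span_range_iff_exists_fun A).1 ha
  refine ⟨v, ?_⟩
  rw [map_add, Ideal.Quotient.eq_zero_iff_mem.2 hb, add_zero]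
  congr 1
  simp [Coord.sec, TensorProduct.smul_tmul']

theorem finite_quot_reach [Module.Finite A ((A ⊗[R] B) ⧸ K)] : Module.Finite A ((A ⊗[R] B) ⧸ reach s K) := by
  haveI : Module.Finite A ((A ⊗[R] B) ⧸ K.restrictScalars A) :=
    Module.Finite.equiv (Submodule.Quotient.restrictScalarsEquiv A K).symm
  exact Module.Finite.of_surjective (Submodule.factor (p := K.restrictScalars A) (p' := reach s K) le_sup_right)
    (Submodule.factor_surjective _)

/-- Away from an element killing the cokernel the prescribed elements generate. -/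
theorem surjective_sec_of_annihilator {A' : Type u} [CommRing A'] [Algebra R A'] (φ : A →ₐ[R] A') {g : A}
    (hg : g ∈ Module.annihilator A ((A ⊗[R] B) ⧸ reach s K)) (hu : IsUnit (φ g)) :
    Function.Surjective fun v : Fin d → A' =>
      Ideal.Quotient.mk (K.map (Algebra.TensorProduct.map φ (AlgHom.id R B)).toRingHom) (Coord.sec s v) := by
  let Φ := Algebra.TensorProduct.map φ (AlgHom.id R B)
  have hmap : ∀ t ∈ reach s K, Φ t ∈ reach s (K.map Φ.toRingHom) := fun t ht => by
    obtain ⟨a, ha, b, hb, rfl⟩ := Submodule.mem_sup.1 ht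
    obtain ⟨v, rfl⟩ := (Submodule.mem_span_range_iff_exists_fun A).1 ha
    rw [map_add]
    refine add_mem ?_ (Submodule.mem_sup_right (Ideal.mem_map_of_mem Φ.toRingHom hb))
    have : Φ (∑ i, v i • ((1 : A) ⊗ₜ[R] s i)) = Coord.sec s (fun i => φ (v i)) := by
      simp [Φ, Coord.sec, TensorProduct.smul_tmul']
    rw [this]
    exact sec_mem_reach _
  have htop : ∀ t : A' ⊗[R] B, t ∈ reach s (K.map Φ.toRingHom) := fun t => by
    induction t using TensorProduct.induction_on with
    | zero => exact zero_mem _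
    | add u v hu hv => exact add_mem hu hv
    | tmul a b =>
      have h1 : g • ((1 : A) ⊗ₜ[R] b) ∈ reach s K := by
        rw [← Submodule.Quotient.mk_eq_zero, Submodule.Quotient.mk_smul]
        exact Module.mem_annihilator.1 hg _
      have h2 := hmap _ h1
      have e : Φ (g • ((1 : A) ⊗ₜ[R] b)) = φ g • ((1 : A') ⊗ₜ[R] b) := by
        simp [Φ, TensorProduct.smul_tmul']
      rw [e] at h2
      obtain ⟨u, hu'⟩ := hu
      have h3 := Submodule.smul_mem _ ((↑u⁻¹ : A') * a) h2
      rw [smul_smul, ← hu', mul_assoc, mul_comm a (u : A'), ← mul_assoc, Units.inv_mul, one_mul,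
        TensorProduct.smul_tmul', smul_eq_mul, mul_one] at h3
      exact h3
  intro q
  obtain ⟨t, rfl⟩ := Ideal.Quotient.mk_surjective q
  exact exists_sec_of_mem_reach (htop t)

/-- If after base change to a field the prescribed elements give a chart, the cokernel vanishes there. -/
theorem subsingleton_tensor_quot_reach {L : Type u} [Field L] [Algebra R L] [Algebra A L] (φ : A →ₐ[R] L)
    (hφ : ∀ a, φ a = algebraMap A L a) (x : Coord R B s L)
    (hx : x.ideal = K.map (Algebra.TensorProduct.map φ (AlgHom.id R B)).toRingHom) :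
    Subsingleton (L ⊗[A] ((A ⊗[R] B) ⧸ reach s K)) := by
  let Φ := Algebra.TensorProduct.map φ (AlgHom.id R B)
  haveI : IsScalarTower R A L := IsScalarTower.of_algebraMap_eq fun r => by rw [← hφ, φ.commutes]
  let π : A ⊗[R] B →ₗ[A] (A ⊗[R] B) ⧸ reach s K := Submodule.mkQ _
  let ρ : B →ₗ[R] L ⊗[A] ((A ⊗[R] B) ⧸ reach s K) :=
    ((TensorProduct.mk A L _ 1).restrictScalars R) ∘ₗ (π.restrictScalars R) ∘ₗ
      (Algebra.TensorProduct.includeRight : B →ₐ[R] A ⊗[R] B).toLinearMap
  let Θ : L ⊗[R] B →ₗ[L] L ⊗[A] ((A ⊗[R] B) ⧸ reach s K) := ρ.liftBaseChange L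
  have hΘ : ∀ t, Θ (Φ t) = (1 : L) ⊗ₜ[A] π t := fun t => by
    induction t using TensorProduct.induction_on with
    | zero => simp
    | add u v hu hv => simp only [map_add, hu, hv, TensorProduct.tmul_add]
    | tmul a b =>
      have : a ⊗ₜ[R] b = a • ((1 : A) ⊗ₜ[R] b) := by rw [TensorProduct.smul_tmul', smul_eq_mul, mul_one]
      rw [show π (a ⊗ₜ[R] b) = a • π ((1 : A) ⊗ₜ[R] b) by rw [← map_smul, ← this], TensorProduct.tmul_smul]
      simp only [Φ, Θ, Algebra.TensorProduct.map_tmul, AlgHom.coe_id, id_eq, LinearMap.liftBaseChange_tmul]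
      rw [hφ, IsScalarTower.algebraMap_smul]
      rfl
  have hK0 : ∀ k ∈ K, ∀ u : L ⊗[R] B, Θ (u * Φ k) = 0 := fun k hk u => by
    induction u using TensorProduct.induction_on with
    | zero => simp
    | add u v hu hv => rw [add_mul, map_add, hu, hv, add_zero]
    | tmul l b =>
      have e : (l ⊗ₜ[R] b) * Φ k = l • Φ (((1 : A) ⊗ₜ[R] b) * k) := by
        rw [map_mul, ← smul_mul_assoc]
        simp [Φ, TensorProduct.smul_tmul']
      rw [e, map_smul, hΘ, show π (((1 : A) ⊗ₜ[R] b) * k) = 0 from (Submodule.Quotient.mk_eq_zero _).2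
        (Submodule.mem_sup_right (K.mul_mem_left _ hk)), TensorProduct.tmul_zero, smul_zero]
  have hK : ∀ t ∈ K.map Φ.toRingHom, ∀ u, Θ (u * t) = 0 := fun t ht => by
    induction ht using Submodule.span_induction with
    | mem y hy => obtain ⟨k, hk, rfl⟩ := hy; exact hK0 k hk
    | zero => simp
    | add u v _ _ hu hv => intro w; rw [mul_add, map_add, hu, hv, add_zero]
    | smul r y _ ih => intro w; rw [smul_eq_mul, ← mul_assoc]; exact ih _
  have hsec : ∀ v : Fin d → L, Θ (Coord.sec s v) = 0 := fun v => by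
    have h1 : ∀ i, π ((1 : A) ⊗ₜ[R] s i) = 0 := fun i =>
      (Submodule.Quotient.mk_eq_zero _).2 (Submodule.mem_sup_left (Submodule.subset_span ⟨i, rfl⟩))
    simp [Coord.sec, Θ, LinearMap.liftBaseChange_tmul, ρ, h1]
  refine subsingleton_of_forall_eq 0 fun z => ?_
  induction z using TensorProduct.induction_on with
  | zero => rfl
  | add u v hu hv => rw [hu, hv, add_zero]
  | tmul l q =>
    obtain ⟨t, rfl⟩ := Submodule.mkQ_surjective _ q
    have h1 : Θ (Φ t) = 0 := by
      have h2 := hK _ (hx ▸ x.sub_sec_mem (Φ t)) 1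
      rwa [one_mul, map_sub, hsec, sub_zero] at h2
    rw [hΘ] at h1
    rw [show l = l • (1 : L) by simp, ← TensorProduct.smul_tmul', show (reach s K).mkQ t = π t from rfl, h1, smul_zero]

/-- The cokernel is killed by an element outside a prime whose fibre it misses. -/
theorem exists_annihilator_notMem (M : Type u) [AddCommGroup M] [Module A M] [Module.Finite A M] (p : PrimeSpectrum A)
    (h : Subsingleton (p.asIdeal.ResidueField ⊗[A] M)) : ∃ g ∈ Module.annihilator A M, g ∉ p.asIdeal := by
  by_contra hcon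
  push Not at hcon
  have hp : p ∈ Module.support A M := (Module.mem_support_iff_of_finite).2 fun g hg => hcon g hg
  have := (Module.mem_support_iff_nontrivial_residueField_tensorProduct p).1 hp
  exact not_subsingleton _ h

theorem subsingleton_residueField_tensor (M : Type u) [AddCommGroup M] [Module A M] (p : PrimeSpectrum A)
    (L : Type u) [Field L] [Algebra A L] [Algebra p.asIdeal.ResidueField L]
    [IsScalarTower A p.asIdeal.ResidueField L] (h : Subsingleton (L ⊗[A] M)) :
    Subsingleton (p.asIdeal.ResidueField ⊗[A] M) := by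
  let e := TensorProduct.AlgebraTensorModule.cancelBaseChange A p.asIdeal.ResidueField p.asIdeal.ResidueField L M
  haveI : Subsingleton (L ⊗[p.asIdeal.ResidueField] (p.asIdeal.ResidueField ⊗[A] M)) := e.toEquiv.subsingleton
  exact (Module.FaithfullyFlat.subsingleton_tensorProduct_iff_right p.asIdeal.ResidueField L).1 inferInstance

/-- The projection to the cokernel. -/
def toQuotReach (s : Fin d → B) (K : Ideal (A ⊗[R] B)) : ((A ⊗[R] B) ⧸ K) →ₗ[A] (A ⊗[R] B) ⧸ reach s K :=
  (Submodule.factor (p := K.restrictScalars A) (p' := reach s K) le_sup_right).comp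
    (Submodule.Quotient.restrictScalarsEquiv A K).symm.toLinearMap

theorem toQuotReach_surjective (s : Fin d → B) : Function.Surjective (toQuotReach s K) := fun z => by
  obtain ⟨t, rfl⟩ := Submodule.mkQ_surjective _ z
  exact ⟨Ideal.Quotient.mk K t, rfl⟩

theorem toQuotReach_mk_eq_zero (i : Fin d) :
    toQuotReach s K (Ideal.Quotient.mk K ((1 : A) ⊗ₜ[R] s i)) = 0 :=
  (Submodule.Quotient.mk_eq_zero _).2 (Submodule.mem_sup_left (Submodule.subset_span ⟨i, rfl⟩))

theorem subsingleton_tensor_of_span {k : Type u} [Field k] [Algebra A k] {C Q : Type u} [AddCommGroup C] [Module A C]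
    [AddCommGroup Q] [Module A Q] (q : C →ₗ[A] Q) (hq : Function.Surjective q) (T : Set C)
    (hT : Submodule.span k ((fun c => (1 : k) ⊗ₜ[A] c) '' T) = ⊤) (h0 : ∀ c ∈ T, q c = 0) :
    Subsingleton (k ⊗[A] Q) := by
  refine subsingleton_of_forall_eq 0 fun z => ?_
  obtain ⟨z, rfl⟩ := LinearMap.lTensor_surjective k hq z
  have hz : z ∈ Submodule.span k ((fun c => (1 : k) ⊗ₜ[A] c) '' T) := hT ▸ Submodule.mem_top
  show q.baseChange k z = 0
  induction hz using Submodule.span_induction with
  | mem y hy => obtain ⟨c, hc, rfl⟩ := hy; rw [LinearMap.baseChange_tmul, h0 c hc, TensorProduct.tmul_zero]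
  | zero => exact map_zero _
  | add u v _ _ hu hv => rw [map_add, hu, hv, add_zero]
  | smul l y _ hy => rw [map_smul, hy, smul_zero]

/-- Images of `B` contain a family generating the fibre. -/
theorem exists_sections_field [Module.Finite A ((A ⊗[R] B) ⧸ K)]
    (k : Type u) [Field k] [Algebra A k] (hfr : Module.finrank k (k ⊗[A] ((A ⊗[R] B) ⧸ K)) = d) :
    ∃ s : Fin d → B, Subsingleton (k ⊗[A] ((A ⊗[R] B) ⧸ reach s K)) := by
  let C := (A ⊗[R] B) ⧸ K
  let w : B → k ⊗[A] C := fun b => (1 : k) ⊗ₜ[A] Ideal.Quotient.mk K ((1 : A) ⊗ₜ[R] b)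
  have hspan : Submodule.span k (Set.range w) = ⊤ := by
    rw [eq_top_iff]
    rintro z -
    induction z using TensorProduct.induction_on with
    | zero => exact zero_mem _
    | add u v hu hv => exact add_mem hu hv
    | tmul l q =>
      obtain ⟨t, rfl⟩ := Ideal.Quotient.mk_surjective q
      induction t using TensorProduct.induction_on with
      | zero => simp
      | add u v hu hv => rw [map_add, TensorProduct.tmul_add]; exact add_mem hu hv
      | tmul a b =>
        have h1 : a ⊗ₜ[R] b = a • ((1 : A) ⊗ₜ[R] b) := by rw [TensorProduct.smul_tmul', smul_eq_mul, mul_one]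
        rw [h1, ← Ideal.Quotient.mkₐ_eq_mk A, map_smul, ← TensorProduct.smul_tmul,
          show ((a • l) ⊗ₜ[A] (Ideal.Quotient.mkₐ A K) ((1 : A) ⊗ₜ[R] b) : k ⊗[A] C) = (a • l) • w b by
            simp [w, TensorProduct.smul_tmul', Ideal.Quotient.mkₐ_eq_mk]]
        exact Submodule.smul_mem _ _ (Submodule.subset_span ⟨b, rfl⟩)
  obtain ⟨t, ht1, ht2, ht3⟩ := exists_linearIndependent k (Set.range w)
  let bs : Module.Basis t k (k ⊗[A] C) := Module.Basis.mk ht3 (by simp [ht2, hspan])
  haveI : Fintype t := FiniteDimensional.fintypeBasisIndex bs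
  have hcard : Fintype.card t = d := by rw [← Module.finrank_eq_card_basis bs, hfr]
  let e := Fintype.equivFinOfCardEq hcard
  choose g hg using fun z : t => ht1 z.2
  refine ⟨fun i => g (e.symm i), ?_⟩
  refine subsingleton_tensor_of_span (toQuotReach _ K) (toQuotReach_surjective _)
    (Set.range fun j : t => Ideal.Quotient.mk K ((1 : A) ⊗ₜ[R] g j)) ?_ ?_
  · rw [← Set.range_comp, eq_top_iff, ← bs.span_eq]
    refine Submodule.span_mono ?_
    rintro _ ⟨j, rfl⟩
    exact ⟨j, by rw [Module.Basis.mk_apply]; exact hg j⟩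
  · rintro _ ⟨j, rfl⟩
    have := toQuotReach_mk_eq_zero (K := K) (s := fun i => g (e.symm i)) (e j)
    simpa only [Equiv.symm_apply_apply] using this

theorem exists_sections [Module.Finite A ((A ⊗[R] B) ⧸ K)] [Module.Projective A ((A ⊗[R] B) ⧸ K)]
    (p : PrimeSpectrum A) (hd : Module.rankAtStalk (R := A) ((A ⊗[R] B) ⧸ K) p = d) :
    ∃ s : Fin d → B, Subsingleton (p.asIdeal.ResidueField ⊗[A] ((A ⊗[R] B) ⧸ reach s K)) :=
  exists_sections_field p.asIdeal.ResidueField ((Module.rankAtStalk_eq p).symm.trans hd)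

end Groth.L02.Hilb
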