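import Groth.Agent.L02.Hilb.Base
import Groth.Agent.L02.RelCartier.CurveSum
import Groth.Agent.L23.FppfSmooth

/-!
Hilbert schemes of points of a smooth curve: adding a point.
-/

set_option autoImplicit false
set_option linter.style.haveILetI false
set_option backward.isDefEq.respectTransparency false
set_option backward.isDefEq.respectTransparency.types false

universe u

open CategoryTheory CategoryTheory.Limits AlgebraicGeometry TopologicalSpace
open scoped nonZeroDivisors

namespace Groth.L02.Hilb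

theorem eq_of_mul_eq_mul {X : Scheme.{u}} {I J K : X.IdealSheafData} (hI : BlowUp.IsEffCartierIdeal I)
    (h : I * J = I * K) : J = K := by
  choose U hxU t ht htI using hI
  refine Scheme.IdealSheafData.ext_of_iSup_eq_top U
    (eq_top_iff.2 fun x _ => Opens.mem_iSup.2 ⟨x, hxU x⟩) fun x => ?_
  have h1 : Ideal.span {t x} * J.ideal (U x) = Ideal.span {t x} * K.ideal (U x) := by
    have := congrArg (fun L : X.IdealSheafData => L.ideal (U x)) h
    simpa [Scheme.IdealSheafData.ideal_mul, htI x] using this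
  ext a
  constructor
  · intro ha
    have h2 : t x * a ∈ Ideal.span {t x} * K.ideal (U x) :=
      h1 ▸ Ideal.mul_mem_mul (Ideal.mem_span_singleton_self _) ha
    obtain ⟨z, hz, hza⟩ := Ideal.mem_span_singleton_mul.1 h2
    exact (mul_cancel_left_mem_nonZeroDivisors (ht x)).1 hza ▸ hz
  · intro ha
    have h2 : t x * a ∈ Ideal.span {t x} * J.ideal (U x) :=
      h1 ▸ Ideal.mul_mem_mul (Ideal.mem_span_singleton_self _) ha
    obtain ⟨z, hz, hza⟩ := Ideal.mem_span_singleton_mul.1 h2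
    exact (mul_cancel_left_mem_nonZeroDivisors (ht x)).1 hza ▸ hz

theorem isEmpty_of_finrank_zero {X Y : Scheme.{u}} (q : X ⟶ Y) (h : Mor2.IsFinLocFreeOfDeg 0 q) : IsEmpty X := by
  obtain ⟨⟨hfin, hflat, hfp⟩, hd⟩ := h
  haveI := hfin; haveI := hflat; haveI := hfp
  exact ⟨fun x => Nat.not_succ_le_zero 0 ((Scheme.Hom.one_le_finrank_map q x).trans (hd (q x)).le)⟩

theorem eq_top_of_deg_zero {X Y : Scheme.{u}} (k : X ⟶ Y) (I : X.IdealSheafData)
    (h : Mor2.IsFinLocFreeOfDeg 0 (I.subschemeι ≫ k)) : I = ⊤ := by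
  haveI := isEmpty_of_finrank_zero _ h
  rw [← I.ker_subschemeι]
  exact (Scheme.Hom.ker_eq_top_iff_isEmpty _).2 inferInstance

theorem isFinLocFreeOfDeg_top {X Y : Scheme.{u}} (k : X ⟶ Y) :
    Mor2.IsFinLocFreeOfDeg 0 ((⊤ : X.IdealSheafData).subschemeι ≫ k) := by
  haveI : IsEmpty (⊤ : X.IdealSheafData).subscheme := by
    have h : Set.range (⊤ : X.IdealSheafData).subschemeι = ∅ := by
      rw [Scheme.IdealSheafData.range_subschemeι, Scheme.IdealSheafData.support_top]; rfl
    exact Set.range_eq_empty_iff.1 h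
  set q := (⊤ : X.IdealSheafData).subschemeι ≫ k
  haveI : IsClosedImmersion q := by
    haveI : IsOpenImmersion q := isOpenImmersion_of_isEmpty q
    exact IsClosedImmersion.of_isPreimmersion q (by rw [Set.range_eq_empty]; exact isClosed_empty)
  haveI : IsOpenImmersion q := isOpenImmersion_of_isEmpty q
  refine ⟨⟨inferInstance, inferInstance, inferInstance⟩, fun y => ?_⟩
  rw [Groth.L22.Cyc.finrank_eq_sum]
  exact finsum_eq_zero_of_forall_eq_zero fun x => isEmptyElim x

variable {X S : Scheme.{u}} (f : X ⟶ S) [SmoothOfRelativeDimension 1 f]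

theorem smooth_XTproj (T : Over S) : SmoothOfRelativeDimension 1 (PicF.XTproj f T) :=
  (smoothOfRelativeDimension_isStableUnderBaseChange (n := 1)).of_isPullback
    (IsPullback.of_hasPullback f T.hom) inferInstance

theorem isFinLocFreeOfDeg_mul {T : Over S} {a b : ℕ} (I J : (PicF.XT f T).IdealSheafData)
    (hI : Mor2.IsFinLocFreeOfDeg a (I.subschemeι ≫ PicF.XTproj f T))
    (hJ : Mor2.IsFinLocFreeOfDeg b (J.subschemeι ≫ PicF.XTproj f T)) :
    Mor2.IsFinLocFreeOfDeg (a + b) ((I * J).subschemeι ≫ PicF.XTproj f T) := by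
  haveI := smooth_XTproj f T
  exact Groth.L02.RelCartier.isFinLocFreeOfDeg_mul (PicF.XTproj f T) I J a b hI hJ

variable [IsSeparated f]

theorem eff_secGraph (T : Over S) (x : T.left ⟶ X) (hx : x ≫ f = T.hom) :
    BlowUp.IsEffCartierIdeal (HilbD.secGraph f T x hx) := by
  haveI := smooth_XTproj f T
  exact ((Groth.L02.RelCartier.main_curve (PicF.XTproj f T) _).2 (isFinLocFreeOfDeg_secGraph f T x hx).1).1

/-- Removing a tautological point from a divisor. -/
theorem exists_split {d : ℕ} {T : Over S} (Z : HilbD.Obj f (d + 1) T) :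
    ∃ (W : Over S) (q : W ⟶ T) (x : W.left ⟶ X) (hx : x ≫ f = W.hom) (I : HilbD.Obj f d W)
      (j : W.left ⟶ Z.1.subscheme),
      IsIso j ∧ j ≫ Z.1.subschemeι = secMor f W x hx ≫ PicF.XTmap f q ∧
      q.left = j ≫ Z.1.subschemeι ≫ PicF.XTproj f T ∧
      HilbD.pull f q Z.1 = HilbD.secGraph f W x hx * I.1 := by
  let W : Over S := Over.mk ((Z.1.subschemeι ≫ PicF.XTproj f T) ≫ T.hom)
  let q : W ⟶ T := Over.homMk (Z.1.subschemeι ≫ PicF.XTproj f T) rfl
  let x : W.left ⟶ X := Z.1.subschemeι ≫ pullback.fst f T.hom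
  have hx : x ≫ f = W.hom := by simp [x, W, pullback.condition]
  have hs : secMor f W x hx ≫ PicF.XTmap f q = Z.1.subschemeι := by
    apply pullback.hom_ext
    · rw [Category.assoc, XTmap_fst, secMor_fst]
    · rw [Category.assoc, XTmap_snd, ← Category.assoc, secMor_proj, Category.id_comp]
      rfl
  have hle : HilbD.pull f q Z.1 ≤ HilbD.secGraph f W x hx := by
    rw [pull_eq, secGraph_eq, ← Scheme.IdealSheafData.le_map_iff_comap_le, Scheme.IdealSheafData.map_ker, hs,
      Scheme.IdealSheafData.ker_subschemeι]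
  haveI := smooth_XTproj f W
  obtain ⟨I, hI, hIeq⟩ := Groth.L02.RelCartier.exists_isFinLocFreeOfDeg_quot (PicF.XTproj f W)
    (HilbD.secGraph f W x hx) (HilbD.pull f q Z.1) hle 1 (d + 1) (isFinLocFreeOfDeg_secGraph f W x hx)
    (isFinLocFreeOfDeg_pull f q Z.1 Z.2)
  rw [Nat.add_sub_cancel] at hI
  exact ⟨W, q, x, hx, ⟨I, hI⟩, 𝟙 _, inferInstance, (Category.id_comp _).trans hs.symm,
    (Category.id_comp _).symm, hIeq⟩

theorem addPoint_finLocFree {d : ℕ} (H : Over S) (Z : HilbD.Obj f d H) (hZ : HilbD.IsUniversal f d H Z)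
    (H' : Over S) (Z' : HilbD.Obj f (d + 1) H') (hZ' : HilbD.IsUniversal f (d + 1) H' Z')
    {T : Over S} (p : T ⟶ H) (x : T.left ⟶ X) (hx : x ≫ f = T.hom) (hT : IsPullback p.left x H.hom f)
    (m : T ⟶ H') (hm : HilbD.pull f m Z'.1 = HilbD.pull f p Z.1 * HilbD.secGraph f T x hx) :
    Mor2.IsFinLocFreeOfDeg (d + 1) m.left := by
  obtain ⟨W, q, y, hy, I, j, hj, hjι, hq, hsplit⟩ := exists_split f Z'
  obtain ⟨g, hg, -⟩ := hZ W I
  let b : W ⟶ T := Over.homMk (hT.lift g.left y (by rw [Over.w g, hy])) (by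
    rw [← Over.w p, ← Category.assoc, hT.lift_fst, Over.w g])
  have hbp : b ≫ p = g := Over.OverMorphism.ext (hT.lift_fst _ _ _)
  have hbx : y = b.left ≫ x := (hT.lift_snd _ _ _).symm
  have hbm : b ≫ m = q := hom_ext_of_isUniversal f hZ' _ _ (by
    rw [pull_comp, hm, pull_mul, ← pull_comp, hbp, hg, pull_secGraph f b x hx y hy hbx, hsplit, mul_comm])
  have hle : Z'.1 ≤ (secMor f T x hx ≫ PicF.XTmap f m).ker := by
    rw [← Scheme.IdealSheafData.map_ker, Scheme.IdealSheafData.le_map_iff_comap_le, ← pull_eq, hm]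
    intro U
    rw [Scheme.IdealSheafData.ideal_mul, Pi.mul_apply]
    exact Ideal.mul_le_right
  let a₀ : T.left ⟶ Z'.1.subscheme := IsClosedImmersion.lift Z'.1.subschemeι (secMor f T x hx ≫ PicF.XTmap f m)
    (by rw [Scheme.IdealSheafData.ker_subschemeι]; exact hle)
  have ha₀ : a₀ ≫ Z'.1.subschemeι = secMor f T x hx ≫ PicF.XTmap f m := IsClosedImmersion.lift_fac _ _ _
  have hmX : m.left = a₀ ≫ Z'.1.subschemeι ≫ PicF.XTproj f H' := by
    rw [reassoc_of% ha₀, XTmap_snd, ← Category.assoc, secMor_proj, Category.id_comp]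
  have ha_q : (a₀ ≫ inv j) ≫ q.left = m.left := by
    rw [hq, Category.assoc, IsIso.inv_hom_id_assoc, hmX]
  let a : T ⟶ W := Over.homMk (a₀ ≫ inv j) (by rw [← Over.w q, ← Category.assoc, ha_q, Over.w m])
  have haq : a ≫ q = m := Over.OverMorphism.ext ha_q
  have hay : a.left ≫ y = x := by
    have h1 : y = j ≫ Z'.1.subschemeι ≫ pullback.fst f H'.hom := by
      rw [reassoc_of% hjι, XTmap_fst, secMor_fst]
    rw [h1]
    show (a₀ ≫ inv j) ≫ _ = _
    rw [Category.assoc, IsIso.inv_hom_id_assoc, reassoc_of% ha₀, XTmap_fst, secMor_fst]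
  have hba : b.left ≫ a.left = 𝟙 _ := by
    show b.left ≫ a₀ ≫ inv j = _
    rw [← cancel_mono j, Category.id_comp, Category.assoc, Category.assoc, IsIso.inv_hom_id, Category.comp_id,
      ← cancel_mono Z'.1.subschemeι, Category.assoc, ha₀, hjι]
    apply pullback.hom_ext
    · simp only [Category.assoc, XTmap_fst, secMor_fst]
      exact hbx.symm
    · simp only [Category.assoc, XTmap_snd, ← Category.assoc (secMor _ _ _ _), secMor_proj, Category.id_comp]
      exact congrArg CommaMorphism.left hbm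
  have hag : a ≫ g = p := by
    refine hom_ext_of_isUniversal f hZ _ _ ?_
    rw [pull_comp, hg]
    refine eq_of_mul_eq_mul (eff_secGraph f T x hx) ?_
    rw [← pull_secGraph f a y hy x hx hay.symm, ← pull_mul, ← hsplit, ← pull_comp, haq, hm,
      pull_secGraph f a y hy x hx hay.symm, mul_comm]
  haveI : IsIso a.left := ⟨b.left, by
    apply hT.hom_ext
    · rw [Category.assoc, Category.id_comp]
      exact (congrArg (fun r => a.left ≫ r) (congrArg CommaMorphism.left hbp)).trans (congrArg CommaMorphism.left hag)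
    · rw [Category.assoc, ← hbx, hay, Category.id_comp], hba⟩
  haveI : IsIso a₀ := by
    have : a₀ = a.left ≫ j := by simp [a]
    rw [this]; infer_instance
  rw [hmX]
  exact isFinLocFreeOfDeg_iso_comp a₀ _ Z'.2

theorem exists_splitting {d : ℕ} {T : Over S} (Z : HilbD.Obj f d T) :
    ∃ (T' : Over S) (b : T' ⟶ T), Flat b.left ∧ Surjective b.left ∧ LocallyOfFinitePresentation b.left ∧
      ∃ (x : Fin d → (T'.left ⟶ X)) (hx : ∀ i, x i ≫ f = T'.hom),
        HilbD.pull f b Z.1 = ∏ i, HilbD.secGraph f T' (x i) (hx i) := by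
  induction d generalizing T with
  | zero =>
    refine ⟨T, 𝟙 T, inferInstanceAs (Flat (𝟙 T.left)), inferInstanceAs (Surjective (𝟙 T.left)),
      inferInstanceAs (LocallyOfFinitePresentation (𝟙 T.left)), fun i => i.elim0, fun i => i.elim0, ?_⟩
    rw [pull_id, eq_top_of_deg_zero _ _ Z.2, Finset.univ_eq_empty, Finset.prod_empty]
    rfl
  | succ d ih =>
    obtain ⟨W, q, y, hy, I, j, hj, -, hq, hsplit⟩ := exists_split f Z
    obtain ⟨T', b, hb1, hb2, hb3, x, hx, hprod⟩ := ih I
    obtain ⟨⟨hfin, hflat, hfp⟩, hd⟩ := Z.2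
    haveI := hfin; haveI := hflat; haveI := hfp
    haveI hqs : Surjective q.left := by
      rw [hq]
      haveI : Surjective (Z.1.subschemeι ≫ PicF.XTproj f T) := by
        rw [← Scheme.Hom.one_le_finrank_iff_surjective]
        exact fun y => by rw [hd y]; exact Nat.succ_le_succ (Nat.zero_le _)
      infer_instance
    haveI hqf : Flat q.left := by rw [hq]; infer_instance
    haveI hqp : LocallyOfFinitePresentation q.left := by rw [hq]; infer_instance
    haveI := hb1; haveI := hb2; haveI := hb3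
    have hy' : (b.left ≫ y) ≫ f = T'.hom := by rw [Category.assoc, hy, Over.w b]
    refine ⟨T', b ≫ q, inferInstanceAs (Flat (b.left ≫ q.left)), inferInstanceAs (Surjective (b.left ≫ q.left)),
      inferInstanceAs (LocallyOfFinitePresentation (b.left ≫ q.left)), Fin.cons (b.left ≫ y) x,
      Fin.cases hy' hx, ?_⟩
    rw [pull_comp, hsplit, pull_mul, hprod, pull_secGraph f b y hy (b.left ≫ y) hy' rfl, Fin.prod_univ_succ]
    rfl

theorem exists_splitting_base {d : ℕ} (I : X.IdealSheafData) (hD : Mor2.IsFinLocFreeOfDeg d (I.subschemeι ≫ f)) :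
    ∃ (S' : Scheme.{u}) (b : S' ⟶ S), Flat b ∧ Surjective b ∧ LocallyOfFinitePresentation b ∧
      ∃ σ : Fin d → (S' ⟶ pullback f b), (∀ i, σ i ≫ pullback.snd f b = 𝟙 S') ∧
        (pullback.snd I.subschemeι (pullback.fst f b)).ker = ∏ i, (σ i).ker := by
  let T : Over S := Over.mk (𝟙 S)
  let Z : HilbD.Obj f d T := ⟨I.comap (pullback.fst f (𝟙 S)),
    isFinLocFreeOfDeg_comap (IsPullback.of_hasPullback f (𝟙 S)) I hD⟩
  obtain ⟨T', b, hb1, hb2, hb3, x, hx, hprod⟩ := exists_splitting f Z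
  have hb : b.left = T'.hom := (Category.comp_id _).symm.trans (Over.w b)
  rw [hb] at hb1 hb2 hb3
  refine ⟨T'.left, T'.hom, hb1, hb2, hb3, fun i => secMor f T' (x i) (hx i),
    fun i => secMor_proj f T' (x i) (hx i), ?_⟩
  rw [comap_eq_ker_snd, ← XTmap_fst f b, Scheme.IdealSheafData.comap_comp]
  exact (pull_eq f b Z.1).symm.trans hprod

theorem isIso_of_deg_zero {H : Over S} {Z : HilbD.Obj f 0 H} (hZ : HilbD.IsUniversal f 0 H Z) : IsIso H.hom := by
  obtain ⟨e, -⟩ := hZ (Over.mk (𝟙 S)) ⟨⊤, isFinLocFreeOfDeg_top _⟩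
  let h : H ⟶ Over.mk (𝟙 S) := Over.homMk H.hom (Category.comp_id _)
  have : h ≫ e = 𝟙 H := hom_ext_of_isUniversal f hZ _ _
    ((eq_top_of_deg_zero _ _ (pullObj f (h ≫ e) Z).2).trans (eq_top_of_deg_zero _ _ (pullObj f (𝟙 H) Z).2).symm)
  exact ⟨e.left, congrArg CommaMorphism.left this, Over.w e⟩

theorem smooth_of_isUniversal (hrep : ∀ e : ℕ, HilbD.Representable f e) (d : ℕ) (H : Over S) (Z : HilbD.Obj f d H)
    (hZ : HilbD.IsUniversal f d H Z) : Smooth H.hom := by
  haveI : Smooth f := SmoothOfRelativeDimension.smooth 1 f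
  induction d generalizing H with
  | zero => haveI := isIso_of_deg_zero f hZ; infer_instance
  | succ d ih =>
    obtain ⟨H₀, Z₀, hZ₀⟩ := hrep d
    haveI := ih H₀ Z₀ hZ₀
    let T : Over S := Over.mk (pullback.fst H₀.hom f ≫ H₀.hom)
    let p : T ⟶ H₀ := Over.homMk (pullback.fst H₀.hom f) rfl
    let x : T.left ⟶ X := pullback.snd H₀.hom f
    have hx : x ≫ f = T.hom := pullback.condition.symm
    obtain ⟨m, hm, -⟩ := hZ T ⟨_, isFinLocFreeOfDeg_mul f _ _ (isFinLocFreeOfDeg_pull f p Z₀.1 Z₀.2)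
      (isFinLocFreeOfDeg_secGraph f T x hx)⟩
    obtain ⟨⟨hfin, hflat, hfp⟩, hd⟩ := addPoint_finLocFree f H₀ Z₀ hZ₀ H Z hZ p x hx
      (IsPullback.of_hasPullback H₀.hom f) m hm
    haveI := hfin; haveI := hflat; haveI := hfp
    haveI : Surjective m.left := by
      rw [← Scheme.Hom.one_le_finrank_iff_surjective]
      exact fun y => by rw [hd y]; exact Nat.succ_le_succ (Nat.zero_le _)
    refine Groth.L23.FppfSmooth.smooth_of_fppf_comp m.left H.hom ?_
    rw [Over.w m]
    exact inferInstanceAs (Smooth (pullback.fst H₀.hom f ≫ H₀.hom))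

end Groth.L02.Hilb
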