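import Groth.Agent.L02.Hilb.IdealGlue
import Groth.Agent.L25.HomScheme.Sigma

/-!
The Hilbert functor of points as a Zariski sheaf of families.
-/

set_option autoImplicit false
set_option linter.style.haveILetI false
set_option backward.isDefEq.respectTransparency false
set_option backward.isDefEq.respectTransparency.types false

universe u

open CategoryTheory CategoryTheory.Limits AlgebraicGeometry

noncomputable section

namespace Groth.L02.Hilb

open Groth.L25.HomScheme

variable {X S : Scheme.{u}} (f : X ⟶ S) (d : ℕ)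

/-- The Hilbert functor of points. -/
def hilbFam : Fam.{u, u} S where
  obj T := HilbD.Obj f d T
  res g Z := pullObj f g Z
  res_id Z := Subtype.ext (pull_id f _ Z.1)
  res_comp g h Z := Subtype.ext (pull_comp f g h Z.1)

theorem hilbFam_res {T T' : Over S} (g : T' ⟶ T) (Z : HilbD.Obj f d T) :
    ((hilbFam f d).res g Z).1 = HilbD.pull f g Z.1 := rfl

variable {f d} in
theorem covers_XT {T : Over S} {ι : Type u} {U : ι → Over S} {k : ∀ i, U i ⟶ T}
    (hU : IsOpenFamily U k) (z : (PicF.XT f T : Scheme.{u})) :
    ∃ i, z ∈ Set.range (PicF.XTmap f (k i)) := by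
  obtain ⟨i, w, hw⟩ := hU.covers (PicF.XTproj f T z)
  obtain ⟨c, hc, -⟩ := Scheme.Pullback.exists_preimage_pullback
    (f := PicF.XTproj f T) (g := (k i).left) z w hw.symm
  exact ⟨i, (isPullback_XTmap f (k i)).isoPullback.inv c, by
    rw [← Scheme.Hom.comp_apply, (isPullback_XTmap f (k i)).isoPullback_inv_fst]; exact hc⟩

theorem zarSep_hilbFam : (hilbFam f d).ZarSep := by
  intro T ι U k hU x y h
  refine Subtype.ext ?_
  haveI := fun i => hU.isOpenImmersion i
  haveI : ∀ i, IsOpenImmersion (PicF.XTmap f (k i)) := fun i =>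
    MorphismProperty.of_isPullback (P := @IsOpenImmersion) (isPullback_XTmap f (k i)).flip (hU.isOpenImmersion i)
  refine ext_of_openCover (fun i => PicF.XTmap f (k i)) (covers_XT hU) fun i => ?_
  rw [← pull_eq, ← pull_eq]
  exact congrArg Subtype.val (h i)

theorem zarGlue_hilbFam : (hilbFam f d).ZarGlue := by
  intro T ι U k hU x hx
  haveI : ∀ i, IsOpenImmersion (PicF.XTmap f (k i)) := fun i =>
    MorphismProperty.of_isPullback (P := @IsOpenImmersion) (isPullback_XTmap f (k i)).flip (hU.isOpenImmersion i)
  obtain ⟨I, hI⟩ := exists_glue (fun i => PicF.XTmap f (k i)) (fun i => (x i).1) (covers_XT hU) fun i l => by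
    let Q : Over S := Over.mk (pullback.fst (k i).left (k l).left ≫ (U i).hom)
    let pa : Q ⟶ U i := Over.homMk (pullback.fst (k i).left (k l).left) rfl
    let pb : Q ⟶ U l := Over.homMk (pullback.snd (k i).left (k l).left) (by
      show pullback.snd (k i).left (k l).left ≫ (U l).hom = _
      rw [← Over.w (k l), ← pullback.condition_assoc, Over.w (k i)]
      rfl)
    have hab : pa ≫ k i = pb ≫ k l := Over.OverMorphism.ext pullback.condition
    have sq : IsPullback (PicF.XTmap f pa) (PicF.XTmap f pb) (PicF.XTmap f (k i)) (PicF.XTmap f (k l)) := by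
      refine IsPullback.of_bot ?_ ?_ (isPullback_XTmap f (k l))
      · rw [XTmap_snd f pb, XTmap_snd f (k i)]
        exact (isPullback_XTmap f pa).paste_vert (IsPullback.of_hasPullback (k i).left (k l).left)
      · rw [← XTmap_comp, ← XTmap_comp, hab]
    have h := congrArg Subtype.val (hx i l Q pa pb hab)
    simp only [hilbFam_res, pull_eq] at h
    rw [← sq.isoPullback_inv_fst, ← sq.isoPullback_inv_snd, Scheme.IdealSheafData.comap_comp,
      Scheme.IdealSheafData.comap_comp, h]
  let 𝒰 : T.left.OpenCover := hU.cover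
  let q := I.subschemeι ≫ PicF.XTproj f T
  have key : ∀ i, Mor2.IsFinLocFreeOfDeg d ((I.comap (PicF.XTmap f (k i))).subschemeι ≫ PicF.XTproj f (U i)) :=
    fun i => by rw [hI i]; exact (x i).2
  have hP : ∀ (P : MorphismProperty Scheme.{u}) [IsZariskiLocalAtTarget P] [P.IsStableUnderBaseChange]
      (_ : ∀ i, P ((I.comap (PicF.XTmap f (k i))).subschemeι ≫ PicF.XTproj f (U i))), P q := by
    intro P _ _ hP
    refine (IsZariskiLocalAtTarget.iff_of_openCover (P := P) 𝒰).2 fun i => ?_
    have sq := isPullback_comap (isPullback_XTmap f (k i)) I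
    show P (pullback.snd q (k i).left)
    rw [← sq.isoPullback_inv_snd]
    exact (P.cancel_left_of_respectsIso _ _).2 (hP i)
  haveI hfin : IsFinite q := hP @IsFinite fun i => (key i).1.1
  haveI hflat : Flat q := hP @Flat fun i => (key i).1.2.1
  haveI hfp : LocallyOfFinitePresentation q := hP @LocallyOfFinitePresentation fun i => (key i).1.2.2
  refine ⟨⟨I, ⟨⟨hfin, hflat, hfp⟩, fun t => ?_⟩⟩, fun i => Subtype.ext ((pull_eq f (k i) I).trans (hI i))⟩
  obtain ⟨i, u', rfl⟩ := hU.covers t
  exact (Scheme.Hom.finrank_of_isPullback _ _ q _ (isPullback_comap (isPullback_XTmap f (k i)) I) u').symm.trans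
    ((key i).2 u')

end Groth.L02.Hilb
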