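import Mathlib.AlgebraicGeometry.Morphisms.FlatRank
import Mathlib.AlgebraicGeometry.Fiber
import Mathlib.RingTheory.Artinian.Module

/-!
A fibre of a finite flat morphism has at most as many points as its rank.
-/

set_option autoImplicit false
set_option linter.style.haveILetI false
set_option backward.isDefEq.respectTransparency false
set_option backward.isDefEq.respectTransparency.types false

universe u

open CategoryTheory CategoryTheory.Limits AlgebraicGeometry

noncomputable section

namespace Groth.L02.Hilb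

theorem card_primes_le_finrank (k B : Type u) [Field k] [CommRing B] [Algebra k B] [Module.Finite k B]
    (s : Finset (PrimeSpectrum B)) : s.card ≤ Module.finrank k B := by
  classical
  haveI : IsArtinianRing B := IsArtinianRing.of_finite k B
  have hmax : ∀ p : PrimeSpectrum B, p.asIdeal.IsMaximal := fun p => IsArtinianRing.isMaximal_of_isPrime p.asIdeal
  have hco : Pairwise (Function.onFun IsCoprime fun i : s => i.1.asIdeal) := fun i j hij =>
    Ideal.isCoprime_iff_sup_eq.2 <| (hmax i.1).coprime_of_ne (hmax j.1) fun h => hij (Subtype.ext (PrimeSpectrum.ext h))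
  let ψ : B →ₗ[k] ∀ i : s, B ⧸ i.1.asIdeal := LinearMap.pi fun i => (Ideal.Quotient.mkₐ k i.1.asIdeal).toLinearMap
  have hψ : Function.Surjective ψ := fun g => by
    obtain ⟨z, hz⟩ := Ideal.quotientInfToPiQuotient_surj hco g
    obtain ⟨b, rfl⟩ := Ideal.Quotient.mk_surjective z
    exact ⟨b, hz⟩
  calc s.card = ∑ _i : s, 1 := by simp
    _ ≤ ∑ i : s, Module.finrank k (B ⧸ i.1.asIdeal) := Finset.sum_le_sum fun i _ => by
      haveI := i.1.2
      exact Module.finrank_pos
    _ = Module.finrank k (∀ i : s, B ⧸ i.1.asIdeal) := (Module.finrank_pi_fintype k).symm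
    _ ≤ Module.finrank k B := LinearMap.finrank_le_finrank_of_surjective hψ

/-- At most `d` points lie over a point where the rank is `d`. -/
theorem card_fibre_le_finrank {Z T : Scheme.{u}} (q : Z ⟶ T) [IsFinite q] [Flat q] (y : T)
    (s : Finset Z) (hs : ∀ w ∈ s, q w = y) : s.card ≤ q.finrank y := by
  classical
  let W := q.fiber y
  haveI : IsFinite (q.fiberToSpecResidueField y) := inferInstanceAs (IsFinite (pullback.snd q (T.fromSpecResidueField y)))
  haveI : Flat (q.fiberToSpecResidueField y) := inferInstanceAs (Flat (pullback.snd q (T.fromSpecResidueField y)))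
  haveI : IsAffine W := isAffine_of_isAffineHom (q.fiberToSpecResidueField y)
  obtain ⟨φ, hφ⟩ := Spec.map_surjective (W.isoSpec.inv ≫ q.fiberToSpecResidueField y)
  have hfin : IsFinite (Spec.map φ) := by rw [hφ]; infer_instance
  have hflat : Flat (Spec.map φ) := by rw [hφ]; infer_instance
  have h1 : ∀ x, Scheme.Hom.finrank (Spec.map φ) x = q.finrank y := fun x => by
    rw [hφ, Scheme.Hom.finrank_comp_left_of_isIso]
    show Scheme.Hom.finrank (pullback.snd q (T.fromSpecResidueField y)) x = _
    rw [Scheme.Hom.finrank_pullback_snd, Scheme.fromSpecResidueField_apply]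
  rw [IsFinite.SpecMap_iff] at hfin
  rw [Flat.SpecMap_iff] at hflat
  have h2 := h1 default
  rw [Scheme.Hom.finrank_SpecMap_eq_finrank hfin hflat] at h2
  algebraize [φ.hom]
  rw [← RingHom.algebraMap_toAlgebra φ.hom, RingHom.finrank_algebraMap, Module.rankAtStalk_eq_finrank_of_free] at h2
  simp only [Pi.natCast_def, Nat.cast_id] at h2
  rw [← h2]
  let e : W ≃ₜ q ⁻¹' {y} := q.fiberHomeo y
  let F : s → PrimeSpectrum Γ(W, ⊤) := fun w => W.isoSpec.hom (e.symm ⟨w.1, hs w.1 w.2⟩)
  have hF : Function.Injective F := fun a b h => by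
    have h3 := W.isoSpec.hom.isOpenEmbedding.injective h
    exact Subtype.ext (congrArg Subtype.val (e.symm.injective h3) :)
  have h4 := card_primes_le_finrank (T.residueField y) Γ(W, ⊤) (Finset.univ.image F)
  rwa [Finset.card_image_of_injective _ hF, Finset.card_univ, Fintype.card_coe] at h4

/-- Finitely many points, at most `d` and one at least, are the values of a tuple of length `d`. -/
theorem exists_tuple {α : Type*} {P : Set α} {d : ℕ} (hne : P.Nonempty)
    (h : ∀ s : Finset α, ↑s ⊆ P → s.card ≤ d) : P.Finite ∧ ∃ x : Fin d → α, (∀ i, x i ∈ P) ∧ ∀ a ∈ P, ∃ i, x i = a := by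
  classical
  have hfin : P.Finite := by
    by_contra hc
    obtain ⟨s, hs, hcard⟩ := Set.Infinite.exists_subset_card_eq hc (d + 1)
    have := h s hs; omega
  obtain ⟨a₀, ha₀⟩ := hne
  refine ⟨hfin, ?_⟩
  let L := hfin.toFinset
  have hc : L.card ≤ d := h L (by simp [L])
  let x : Fin d → α := fun i => if hi : i.1 < L.card then (L.equivFin.symm ⟨i.1, hi⟩).1 else a₀
  refine ⟨x, fun i => ?_, fun a ha => ?_⟩
  · by_cases hi : i.1 < L.card
    · simp only [x, dif_pos hi]; exact hfin.mem_toFinset.1 (L.equivFin.symm ⟨i.1, hi⟩).2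
    · simp only [x, dif_neg hi]; exact ha₀
  · let j := L.equivFin ⟨a, hfin.mem_toFinset.2 ha⟩
    refine ⟨⟨j.1, lt_of_lt_of_le j.2 hc⟩, ?_⟩
    simp [x, j]

end Groth.L02.Hilb
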