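import Groth.Agent.L02.Hilb.Base
import Groth.Agent.L23.SchKer
import Groth.Agent.S0084
import Groth.Agent.S1128
import Mathlib.AlgebraicGeometry.Morphisms.LocalFlatDescent

/-!
The Hilbert functor of points is a sheaf for single fpqc coverings.
-/

set_option autoImplicit false
set_option linter.style.haveILetI false
set_option backward.isDefEq.respectTransparency false
set_option backward.isDefEq.respectTransparency.types false

universe u

open CategoryTheory CategoryTheory.Limits AlgebraicGeometry

namespace Groth.L02.Hilb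

theorem map_comap_flat_surjective {A B : Scheme.{u}} (b : A ⟶ B) [Flat b] [Surjective b] (J : B.IdealSheafData) :
    (J.comap b).map b = J := by
  show (pullback.fst b J.subschemeι).ker.map b = J
  rw [Scheme.IdealSheafData.map_ker, pullback.condition, Groth.L23.SchKer.ker_comp_of_flat_surjective,
    Scheme.IdealSheafData.ker_subschemeι]

theorem comap_map_of_symmetric {A B P : Scheme.{u}} {q₁ q₂ : P ⟶ A} {b : A ⟶ B} (sq : IsPullback q₁ q₂ b b)
    [Flat b] [QuasiCompact b] (J : A.IdealSheafData) (h : J.comap q₁ = J.comap q₂) :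
    (J.map b).comap b = J := by
  have hP : IsPullback (pullback.fst q₂ J.subschemeι ≫ q₁) (pullback.snd q₂ J.subschemeι) b (J.subschemeι ≫ b) :=
    ((IsPullback.of_hasPullback q₂ J.subschemeι).flip.paste_vert sq.flip).flip
  rw [Scheme.IdealSheafData.map, Groth.L23.SchKer.comap_ker_of_quasiCompact, ← hP.isoPullback_inv_fst,
    Scheme.Hom.ker_comp_of_isIso, ← Scheme.IdealSheafData.map_ker]
  show (J.comap q₂).map q₁ = J
  rw [← h]
  let δ : A ⟶ P := sq.lift (𝟙 A) (𝟙 A) rfl
  refine le_antisymm ?_ (Scheme.IdealSheafData.le_map_comap _ _)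
  refine (Scheme.IdealSheafData.map_mono q₁ (Scheme.IdealSheafData.le_map_comap (J.comap q₁) δ)).trans ?_
  dsimp only
  rw [← Scheme.IdealSheafData.map_comp, ← Scheme.IdealSheafData.comap_comp, sq.lift_fst,
    Scheme.IdealSheafData.comap_id, Scheme.IdealSheafData.map_id]

variable {X S : Scheme.{u}} (f : X ⟶ S) (d : ℕ) (T : Over S) {T' : Scheme.{u}} (g : T' ⟶ T.left)
  [QuasiCompact g] [Flat g] [Surjective g]

theorem existsUnique_descent (Z' : HilbD.Obj f d (HilbD.coverOver T g))
    (hZ' : HilbD.pull f (HilbD.overlapFst T g) Z'.1 = HilbD.pull f (HilbD.overlapSnd T g) Z'.1) :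
    ∃! I : (PicF.XT f T).IdealSheafData, Mor2.IsFinLocFreeOfDeg d (I.subschemeι ≫ PicF.XTproj f T) ∧
      HilbD.pull f (HilbD.coverHom T g) I = Z'.1 := by
  let b := PicF.XTmap f (HilbD.coverHom T g)
  have hb := isPullback_XTmap f (HilbD.coverHom T g)
  haveI : Flat b := MorphismProperty.of_isPullback (P := @Flat) hb.flip ‹Flat g›
  haveI : QuasiCompact b := MorphismProperty.of_isPullback (P := @QuasiCompact) hb.flip ‹QuasiCompact g›
  haveI : Surjective b := MorphismProperty.of_isPullback (P := @Surjective) hb.flip ‹Surjective g›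
  let q₁ := PicF.XTmap f (HilbD.overlapFst T g)
  let q₂ := PicF.XTmap f (HilbD.overlapSnd T g)
  have sq : IsPullback q₁ q₂ b b := by
    refine IsPullback.of_bot ?_ ?_ hb
    · rw [XTmap_snd f (HilbD.overlapSnd T g), XTmap_snd f (HilbD.coverHom T g)]
      exact (isPullback_XTmap f (HilbD.overlapFst T g)).paste_vert (IsPullback.of_hasPullback g g)
    · show q₁ ≫ b = q₂ ≫ b
      rw [← XTmap_comp, ← XTmap_comp]
      exact congrArg (PicF.XTmap f) (Over.OverMorphism.ext pullback.condition)
  have hI : (Z'.1.map b).comap b = Z'.1 :=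
    comap_map_of_symmetric sq _ (by rw [← pull_eq, ← pull_eq]; exact hZ')
  refine ⟨Z'.1.map b, ⟨?_, by rw [pull_eq]; exact hI⟩, fun I ⟨_, hI'⟩ => ?_⟩
  · obtain ⟨⟨hfin, hflat, hfp⟩, hd⟩ := Z'.2
    have sq' := isPullback_comap hb (Z'.1.map b)
    have hQ : (@Surjective ⊓ @Flat ⊓ @QuasiCompact : MorphismProperty Scheme.{u}) (HilbD.coverHom T g).left :=
      ⟨⟨‹Surjective g›, ‹Flat g›⟩, ‹QuasiCompact g›⟩
    rw [← hI] at hfin hflat hfp hd
    haveI := Groth.Agent.S0084.result.{u}
    haveI f1 : IsFinite ((Z'.1.map b).subschemeι ≫ PicF.XTproj f T) :=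
      MorphismProperty.of_isPullback_of_descendsAlong (P := @IsFinite)
        (Q := (@Surjective ⊓ @Flat ⊓ @QuasiCompact : MorphismProperty Scheme.{u})) sq'.flip hQ hfin
    haveI f3 : LocallyOfFinitePresentation ((Z'.1.map b).subschemeι ≫ PicF.XTproj f T) :=
      MorphismProperty.of_isPullback_of_descendsAlong (P := @LocallyOfFinitePresentation)
        (Q := (@Surjective ⊓ @Flat ⊓ @QuasiCompact : MorphismProperty Scheme.{u})) sq'.flip hQ hfp
    haveI hgf : Flat (HilbD.coverHom T g).left := ‹Flat g›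
    haveI hgs : Surjective (HilbD.coverHom T g).left := ‹Surjective g›
    haveI : Flat ((Z'.1.map b).subschemeι ≫ PicF.XTproj f T) := by
      haveI hf1 : Flat (((Z'.1.map b).comapIso b).hom ≫ pullback.snd _ _) :=
        MorphismProperty.of_isPullback (P := @Flat) sq'.flip hgf
      haveI hf2 : Surjective (((Z'.1.map b).comapIso b).hom ≫ pullback.snd _ _) :=
        MorphismProperty.of_isPullback (P := @Surjective) sq'.flip hgs
      haveI : Flat ((((Z'.1.map b).comapIso b).hom ≫ pullback.snd _ _) ≫ (Z'.1.map b).subschemeι ≫ PicF.XTproj f T) := by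
        haveI := hflat
        rw [sq'.w]
        infer_instance
      exact Groth.Agent.S1128.result (((Z'.1.map b).comapIso b).hom ≫ pullback.snd _ _) _
    refine ⟨⟨f1, inferInstance, f3⟩, fun y => ?_⟩
    obtain ⟨y', rfl⟩ := g.surjective y
    haveI := hflat
    haveI := hfin
    exact (Scheme.Hom.finrank_of_isPullback _ _ _ _ sq' y').symm.trans (hd y')
  · rw [← hI', pull_eq, map_comap_flat_surjective]

end Groth.L02.Hilb
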