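import Groth.Agent.L02.Hilb.Base
import Groth.Agent.L23.SchKer
import Mathlib.AlgebraicGeometry.Limits

/-!
Gluing closed subschemes along an open covering.
-/

set_option autoImplicit false
set_option linter.style.haveILetI false
set_option backward.isDefEq.respectTransparency false
set_option backward.isDefEq.respectTransparency.types false

universe u

open CategoryTheory CategoryTheory.Limits AlgebraicGeometry TopologicalSpace

namespace Groth.L02.Hilb

variable {X Y Z : Scheme.{u}}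

theorem le_ker_comp_iff (I : X.IdealSheafData) (a : Z ⟶ Y) (u : Y ⟶ X) :
    I ≤ (a ≫ u).ker ↔ I.comap u ≤ a.ker := by
  rw [← Scheme.IdealSheafData.map_ker, Scheme.IdealSheafData.le_map_iff_comap_le]

theorem le_ker_of_cover (I : X.IdealSheafData) (g : Z ⟶ X)
    (h : ∀ z : Z, ∃ (P : Scheme.{u}) (o : P ⟶ Z), IsOpenImmersion o ∧ z ∈ Set.range o ∧ I ≤ (o ≫ g).ker) :
    I ≤ g.ker := by
  obtain ⟨w, hw⟩ := Groth.L25.Locus.factors_of_cover I.subschemeι g fun z => by
    obtain ⟨P, o, ho, hz, hle⟩ := h z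
    exact ⟨P, o, ho, hz, (Groth.L02.SchDom.exists_factor_iff_ker_le I.subschemeι (o ≫ g)).2
      (by rw [Scheme.IdealSheafData.ker_subschemeι]; exact hle)⟩
  have := (Groth.L02.SchDom.exists_factor_iff_ker_le I.subschemeι g).1 ⟨w, hw⟩
  rwa [Scheme.IdealSheafData.ker_subschemeι] at this

theorem le_of_openCover {ι : Type*} {V : ι → Scheme.{u}} (j : ∀ i, V i ⟶ X) [∀ i, IsOpenImmersion (j i)]
    (cov : ∀ x, ∃ i, x ∈ Set.range (j i)) {I I' : X.IdealSheafData}
    (h : ∀ i, I.comap (j i) ≤ I'.comap (j i)) : I ≤ I' := by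
  rw [← I'.ker_subschemeι]
  refine le_ker_of_cover I _ fun z => ?_
  obtain ⟨i, hi⟩ := cov (I'.subschemeι z)
  obtain ⟨v, hv⟩ := hi
  obtain ⟨c, hc, -⟩ := Scheme.Pullback.exists_preimage_pullback (f := I'.subschemeι) (g := j i) z v hv.symm
  refine ⟨_, pullback.fst I'.subschemeι (j i), inferInstance, ⟨c, hc⟩, ?_⟩
  rw [pullback.condition, le_ker_comp_iff]
  refine (h i).trans ?_
  rw [← le_ker_comp_iff, ← pullback.condition, ← Scheme.IdealSheafData.map_ker]
  have := (Scheme.Hom.le_ker_comp (pullback.fst I'.subschemeι (j i)) I'.subschemeι)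
  rw [Scheme.IdealSheafData.ker_subschemeι] at this
  rw [Scheme.IdealSheafData.map_ker]
  exact this

theorem ext_of_openCover {ι : Type*} {V : ι → Scheme.{u}} (j : ∀ i, V i ⟶ X) [∀ i, IsOpenImmersion (j i)]
    (cov : ∀ x, ∃ i, x ∈ Set.range (j i)) {I I' : X.IdealSheafData}
    (h : ∀ i, I.comap (j i) = I'.comap (j i)) : I = I' :=
  le_antisymm (le_of_openCover j cov fun i => (h i).le) (le_of_openCover j cov fun i => (h i).ge)

section Glue

variable {ι : Type u} {V : ι → Scheme.{u}} (j : ∀ i, V i ⟶ X) [∀ i, IsOpenImmersion (j i)]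
  (K : ∀ i, (V i).IdealSheafData)

/-- Transfer of vanishing between the pieces. -/
theorem le_ker_transfer
    (hK : ∀ i k, (K i).comap (pullback.fst (j i) (j k)) = (K k).comap (pullback.snd (j i) (j k)))
    {i k : ι} {W : Scheme.{u}} (a : W ⟶ V i) (b : W ⟶ V k) (h : a ≫ j i = b ≫ j k) (hb : K k ≤ b.ker) :
    K i ≤ a.ker := by
  rw [← pullback.lift_snd a b h, le_ker_comp_iff, ← hK, ← le_ker_comp_iff, pullback.lift_fst] at hb
  exact hb

theorem exists_glue (cov : ∀ x, ∃ i, x ∈ Set.range (j i))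
    (hK : ∀ i k, (K i).comap (pullback.fst (j i) (j k)) = (K k).comap (pullback.snd (j i) (j k))) :
    ∃ I : X.IdealSheafData, ∀ i, I.comap (j i) = K i := by
  classical
  let P : ∀ (Y : Scheme.{u}), (Y ⟶ X) → Prop := fun Y g =>
    ∀ i (W : Scheme.{u}) (a : W ⟶ V i) (o : W ⟶ Y), a ≫ j i = o ≫ g → K i ≤ a.ker
  have hcomp : ∀ (Y Z : Scheme.{u}) (h : Z ⟶ Y) (g : Y ⟶ X), P Y g → P Z (h ≫ g) :=
    fun Y Z h g hg i W a o e => hg i W a (o ≫ h) (by rw [e, Category.assoc])
  have hloc : ∀ (Y : Scheme.{u}) (g : Y ⟶ X),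
      (∀ y : Y, ∃ W : Y.Opens, y ∈ W ∧ P W (W.ι ≫ g)) → P Y g := by
    intro Y g hg i W a o e
    refine le_ker_of_cover _ _ fun z => ?_
    obtain ⟨U, hzU, hU⟩ := hg (o z)
    refine ⟨_, (o ⁻¹ᵁ U).ι, inferInstance, by rw [Scheme.Opens.range_ι]; exact hzU, ?_⟩
    exact hU i _ ((o ⁻¹ᵁ U).ι ≫ a) (o ∣_ U) (by rw [Category.assoc, e, morphismRestrict_ι_assoc])
  have hU : ∀ U : X.affineOpens, ∃ I : Ideal Γ(X, U.1), ∀ (R : CommRingCat.{u}) (φ : Γ(X, U.1) ⟶ R),
      P (Spec R) (Spec.map φ ≫ U.2.fromSpec) ↔ I ≤ RingHom.ker φ.hom := by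
    intro U
    let X₀ := Spec Γ(X, U.1)
    have hpiece : ∀ x : X₀, ∃ (i : ι) (W : X₀.Opens), x ∈ W ∧ IsAffineOpen W ∧
        Set.range (W.ι ≫ U.2.fromSpec) ⊆ Set.range (j i) := by
      intro x
      obtain ⟨i, hi⟩ := cov (U.2.fromSpec x)
      obtain ⟨W, hW, hxW, hWle⟩ := exists_isAffineOpen_mem_and_subset
        (x := x) (U := U.2.fromSpec ⁻¹ᵁ (j i).opensRange) hi
      refine ⟨i, W, hxW, hW, ?_⟩
      rintro _ ⟨w, rfl⟩
      exact hWle w.2
    choose idx W hxW hW hWr using hpiece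
    obtain ⟨s, hs⟩ := (isCompact_univ (X := X₀)).elim_finite_subcover
      (fun x => (W x : Set X₀)) (fun x => (W x).2) fun x _ => Set.mem_iUnion.2 ⟨x, hxW x⟩
    let u : ∀ m : s, (W m.1 : Scheme.{u}) ⟶ X₀ := fun m => (W m.1).ι
    have hu : ∀ x : X₀, ∃ m, x ∈ Set.range (u m) := fun x => by
      obtain ⟨m, hm, hxm⟩ : ∃ m ∈ s, x ∈ W m := by
        simpa using hs (Set.mem_univ x)
      exact ⟨⟨m, hm⟩, by rw [Scheme.Opens.range_ι]; exact hxm⟩
    let l : ∀ m : s, (W m.1 : Scheme.{u}) ⟶ V (idx m.1) := fun m =>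
      IsOpenImmersion.lift (j (idx m.1)) (u m ≫ U.2.fromSpec) (hWr m.1)
    have hl : ∀ m, l m ≫ j (idx m.1) = u m ≫ U.2.fromSpec := fun m => IsOpenImmersion.lift_fac _ _ _
    let K' : ∀ m : s, (W m.1 : Scheme.{u}).IdealSheafData := fun m => (K (idx m.1)).comap (l m)
    let w : (∐ fun m : s => (K' m).subscheme) ⟶ X₀ := Sigma.desc fun m => (K' m).subschemeι ≫ u m
    haveI : ∀ m : s, IsAffine (K' m).subscheme := fun m =>
      haveI : IsAffine (W m.1 : Scheme.{u}) := hW m.1
      isAffine_of_isAffineHom (K' m).subschemeι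
    haveI : QuasiCompact w := inferInstance
    have hJ : ∀ m : s, w.ker.comap (u m) = K' m := by
      intro m
      rw [Groth.L23.SchKer.comap_ker_of_quasiCompact]
      refine le_antisymm ?_ ?_
      · have e : (K' m).subschemeι = pullback.lift (K' m).subschemeι
            (Sigma.ι (fun m : s => (K' m).subscheme) m) (by simp [w]) ≫ pullback.fst (u m) w :=
          (pullback.lift_fst _ _ _).symm
        conv_rhs => rw [← (K' m).ker_subschemeι, e]
        exact Scheme.Hom.le_ker_comp _ _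
      · refine le_ker_of_cover _ _ fun z => ?_
        obtain ⟨n, y, hy⟩ := (sigmaOpenCover fun m : s => (K' m).subscheme).exists_eq (pullback.snd (u m) w z)
        let q : (K' n).subscheme ⟶ _ := Sigma.ι (fun m : s => (K' m).subscheme) n
        obtain ⟨c, hc, -⟩ := Scheme.Pullback.exists_preimage_pullback
          (f := pullback.snd (u m) w) (g := q) z y hy.symm
        refine ⟨_, pullback.fst (pullback.snd (u m) w) q, inferInstance, ⟨c, hc⟩, ?_⟩
        show (K (idx m.1)).comap (l m) ≤ _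
        rw [← le_ker_comp_iff]
        refine le_ker_transfer j K hK _ (pullback.snd (pullback.snd (u m) w) q ≫ (K' n).subschemeι ≫ l n) ?_ ?_
        · have e : q ≫ w = (K' n).subschemeι ≫ u n := Sigma.ι_desc _ _
          simp only [Category.assoc, hl, ← reassoc_of% e, pullback.condition_assoc (f := u m) (g := w),
            pullback.condition_assoc (f := pullback.snd (u m) w) (g := q)]
        · refine le_trans ?_ (Scheme.Hom.le_ker_comp _ _)
          rw [le_ker_comp_iff, Scheme.IdealSheafData.ker_subschemeι]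
    refine ⟨(w.ker.ideal ⟨⊤, isAffineOpen_top X₀⟩).map (Scheme.ΓSpecIso Γ(X, U.1)).hom.hom, fun R φ => ?_⟩
    have hiff : P (Spec R) (Spec.map φ ≫ U.2.fromSpec) ↔ w.ker ≤ (Spec.map φ).ker := by
      constructor
      · intro hP
        refine le_ker_of_cover _ _ fun z => ?_
        obtain ⟨m, v, hv⟩ := hu (Spec.map φ z)
        obtain ⟨c, hc, -⟩ := Scheme.Pullback.exists_preimage_pullback (f := Spec.map φ) (g := u m) z v hv.symm
        refine ⟨_, pullback.fst (Spec.map φ) (u m), inferInstance, ⟨c, hc⟩, ?_⟩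
        rw [pullback.condition, le_ker_comp_iff, hJ m, ← le_ker_comp_iff]
        exact hP _ _ _ (pullback.fst (Spec.map φ) (u m)) (by rw [Category.assoc, hl, ← pullback.condition_assoc])
      · intro hle i Z a o e
        refine le_ker_of_cover _ _ fun z => ?_
        obtain ⟨m, v, hv⟩ := hu ((o ≫ Spec.map φ) z)
        obtain ⟨c, hc, -⟩ := Scheme.Pullback.exists_preimage_pullback (f := o ≫ Spec.map φ) (g := u m) z v hv.symm
        refine ⟨_, pullback.fst (o ≫ Spec.map φ) (u m), inferInstance, ⟨c, hc⟩, ?_⟩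
        refine le_ker_transfer j K hK _ (pullback.snd (o ≫ Spec.map φ) (u m) ≫ l m) ?_ ?_
        · rw [Category.assoc, Category.assoc, hl, e, ← pullback.condition_assoc, Category.assoc]
        · rw [le_ker_comp_iff]
          show K' m ≤ _
          rw [← hJ m, ← le_ker_comp_iff, ← pullback.condition, ← Category.assoc]
          exact hle.trans (Scheme.Hom.le_ker_comp _ _)
    rw [hiff, Ideal.map_le_iff_le_comap, RingHom.comap_ker, Scheme.ker_of_isAffine (Spec.map φ)]
    have hk : RingHom.ker (φ.hom.comp (Scheme.ΓSpecIso Γ(X, U.1)).hom.hom) = RingHom.ker (Spec.map φ).appTop.hom := by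
      rw [← CommRingCat.hom_comp, ← Scheme.ΓSpecIso_naturality, CommRingCat.hom_comp]
      exact RingHom.ker_equiv_comp _ (Scheme.ΓSpecIso R).commRingCatIsoToRingEquiv
    rw [hk]
    refine ⟨fun h => ?_, fun h => Scheme.IdealSheafData.le_of_isAffine ?_⟩
    · have h' := h ⟨⊤, isAffineOpen_top X₀⟩
      simpa [Scheme.IdealSheafData.ofIdealTop_ideal] using h'
    · simpa [Scheme.IdealSheafData.ofIdealTop_ideal] using h
  obtain ⟨T, t, ht, h⟩ := Groth.L13.FixedLocus.exists_closedImmersion_of_affine P hcomp hloc hU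
  refine ⟨t.ker, fun i => le_antisymm ?_ ?_⟩
  · rw [← (K i).ker_subschemeι, ← le_ker_comp_iff, ← Groth.L02.SchDom.exists_factor_iff_ker_le, h]
    intro k W a o e
    refine le_ker_transfer j K hK a (o ≫ (K i).subschemeι) (by rw [e, Category.assoc]) ?_
    exact (K i).ker_subschemeι.ge.trans (Scheme.Hom.le_ker_comp _ _)
  · rw [← Scheme.IdealSheafData.ker_fst_of_isClosedImmersion]
    exact (h T t).1 ⟨𝟙 T, Category.id_comp t⟩ i _ (pullback.fst (j i) t) (pullback.snd (j i) t) pullback.condition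

end Glue

end Groth.L02.Hilb
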