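import Groth.Agent.L25.HomScheme.Sigma
import Mathlib.AlgebraicGeometry.Sites.Representability

/-!
A Zariski sheaf of families covered by representable open subfunctors is representable.
-/

set_option autoImplicit false
set_option linter.style.haveILetI false
set_option backward.isDefEq.respectTransparency false
set_option backward.isDefEq.respectTransparency.types false

universe u

open CategoryTheory CategoryTheory.Limits AlgebraicGeometry Opposite TopologicalSpace

namespace Groth.L02.Hilb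

open Groth.L25.HomScheme

variable {S : Scheme.{u}} (F : Fam.{u, u} S)

/-- Elements of the absolute functor of a family. -/
abbrev El (T : Scheme.{u}) : Type u := Σ t : T ⟶ S, F.obj (Over.mk t)

variable {F}

theorem El.ext {T : Scheme.{u}} {p q : El F T} (h : p.1 = q.1)
    (e : F.res (Over.homMk (𝟙 T) (by simp [h]) : Over.mk q.1 ⟶ Over.mk p.1) p.2 = q.2) : p = q := by
  obtain ⟨t, x⟩ := p
  obtain ⟨t', y⟩ := q
  obtain rfl : t = t' := h
  change F.res (𝟙 _) x = y at e
  rw [F.res_id] at e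
  rw [e]

theorem El.res_eq {T : Scheme.{u}} {p q : El F T} (h : p = q) :
    F.res (Over.homMk (𝟙 T) (by simp [h]) : Over.mk q.1 ⟶ Over.mk p.1) p.2 = q.2 := by
  subst h
  change F.res (𝟙 _) p.2 = p.2
  rw [F.res_id]

variable (F)

/-- Restriction of elements. -/
def El.map {T T' : Scheme.{u}} (φ : T' ⟶ T) (p : El F T) : El F T' :=
  ⟨φ ≫ p.1, F.res (Over.homMk φ rfl : Over.mk (φ ≫ p.1) ⟶ Over.mk p.1) p.2⟩

/-- The absolute functor of a family. -/
def elFun : Scheme.{u}ᵒᵖ ⥤ Type u where
  obj T := El F T.unop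
  map φ := TypeCat.ofHom (fun p => El.map F φ.unop p)
  map_id T := by
    refine ConcreteCategory.hom_ext _ _ fun p => ?_
    show El.map F (𝟙 _) p = p
    refine El.ext (Category.id_comp _) ?_
    show F.res _ (F.res _ p.2) = p.2
    rw [← F.res_comp]
    conv_rhs => rw [← F.res_id p.2]
    exact congrArg (F.res · p.2) (Over.OverMorphism.ext (Category.id_comp _))
  map_comp φ ψ := by
    refine ConcreteCategory.hom_ext _ _ fun p => ?_
    show El.map F (ψ.unop ≫ φ.unop) p = El.map F ψ.unop (El.map F φ.unop p)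
    refine El.ext (Category.assoc _ _ _) ?_
    show F.res _ (F.res _ p.2) = F.res _ (F.res _ p.2)
    rw [← F.res_comp, ← F.res_comp]
    refine congrArg (F.res · p.2) (Over.OverMorphism.ext ?_)
    simp

theorem elFun_map {T T' : Scheme.{u}} (φ : T' ⟶ T) (p : El F T) :
    (elFun F).map φ.op p = El.map F φ p := rfl

theorem isSheaf_elFun (hs : F.ZarSep) (hg : F.ZarGlue) :
    Presheaf.IsSheaf Scheme.zariskiTopology (elFun F) := by
  rw [isSheaf_iff_isSheaf_of_type, Scheme.zariskiTopology, Scheme.grothendieckTopology,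
    Precoverage.isSheaf_toGrothendieck_iff_of_isStableUnderBaseChange]
  rintro Y R hR x hx
  obtain ⟨(𝓤 : Scheme.OpenCover Y), rfl⟩ := Scheme.exists_cover_of_mem_pretopology hR
  let y : ∀ j, El F (𝓤.X j) := fun j => x (𝓤.f j) (.mk j)
  have hcomp : ∀ i j {Z : Scheme.{u}} (a : Z ⟶ 𝓤.X i) (b : Z ⟶ 𝓤.X j), a ≫ 𝓤.f i = b ≫ 𝓤.f j →
      El.map F a (y i) = El.map F b (y j) := fun i j Z a b h => hx a b (.mk i) (.mk j) h
  let t : Y ⟶ S := 𝓤.glueMorphisms (fun j => (y j).1) fun i j =>
    congrArg Sigma.fst (hcomp i j (pullback.fst _ _) (pullback.snd _ _) pullback.condition)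
  have ht : ∀ j, 𝓤.f j ≫ t = (y j).1 := fun j => Scheme.Cover.ι_glueMorphisms _ _ _ j
  let T : Over S := Over.mk t
  let U : 𝓤.I₀ → Over S := fun j => Over.mk (y j).1
  let k : ∀ j, U j ⟶ T := fun j => Over.homMk (𝓤.f j) (ht j)
  have hy : ∀ i j (Z : Over S) (a : Z ⟶ U i) (b : Z ⟶ U j), a ≫ k i = b ≫ k j →
      F.res a (y i).2 = F.res b (y j).2 := fun i j Z a b hab => by
    have h := El.res_eq (hcomp i j a.left b.left (congrArg CommaMorphism.left hab))
    simp only [El.map, ← F.res_comp] at h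
    let e : Z ⟶ Over.mk (b.left ≫ (y j).1) := Over.homMk (𝟙 _) ((Category.id_comp _).trans (Over.w b))
    have h2 := congrArg (F.res e) h
    rw [← F.res_comp, ← F.res_comp] at h2
    refine Eq.trans (congrArg (F.res · (y i).2) ?_) (h2.trans (congrArg (F.res · (y j).2) ?_))
    · exact Over.OverMorphism.ext (by simp [e])
    · exact Over.OverMorphism.ext (by simp [e])
  choose idx pre hpre using fun q : Y => 𝓤.exists_eq q
  have hV : IsOpenFamily (fun q : Y => U (idx q)) (fun q => k (idx q)) := by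
    refine ⟨fun q => ?_, fun q => ⟨q, pre q, hpre q⟩⟩
    exact inferInstanceAs (IsOpenImmersion (𝓤.f (idx q)))
  obtain ⟨z, hz⟩ := hg T _ _ _ hV (fun q => (y (idx q)).2) fun q r => hy (idx q) (idx r)
  have hzall : ∀ j, F.res (k j) z = (y j).2 := fun j => by
    let P : (U j).left → Over S := fun w =>
      Over.mk (pullback.fst (𝓤.f j) (𝓤.f (idx (𝓤.f j w))) ≫ (y j).1)
    let l : ∀ w, P w ⟶ U j := fun w => Over.homMk (pullback.fst (𝓤.f j) (𝓤.f (idx (𝓤.f j w)))) rfl
    have hP : IsOpenFamily P l := by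
      refine ⟨fun w => ?_, fun w => ?_⟩
      · exact inferInstanceAs (IsOpenImmersion (pullback.fst (𝓤.f j) (𝓤.f (idx (𝓤.f j w)))))
      · obtain ⟨c, hc, -⟩ := Scheme.Pullback.exists_preimage_pullback (f := 𝓤.f j)
          (g := 𝓤.f (idx (𝓤.f j w))) w (pre (𝓤.f j w)) (hpre _).symm
        exact ⟨w, c, hc⟩
    refine hs (U j) _ P l hP _ _ fun w => ?_
    let r : P w ⟶ U (idx (𝓤.f j w)) := Over.homMk (pullback.snd (𝓤.f j) (𝓤.f (idx (𝓤.f j w)))) (by
      show pullback.snd _ _ ≫ (y _).1 = pullback.fst _ _ ≫ (y j).1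
      rw [← ht, ← ht, pullback.condition_assoc])
    have hlr : l w ≫ k j = r ≫ k (idx (𝓤.f j w)) := Over.OverMorphism.ext pullback.condition
    rw [← F.res_comp, hlr, F.res_comp, hz]
    exact (hy _ _ _ _ _ hlr).symm
  refine ⟨⟨t, z⟩, ?_, ?_⟩
  · rintro Z g ⟨j⟩
    refine El.ext (ht j) ?_
    show F.res _ (F.res _ z) = (y j).2
    rw [← F.res_comp, ← hzall j]
    exact congrArg (F.res · z) (Over.OverMorphism.ext (Category.id_comp _))
  · rintro ⟨t', z'⟩ h'
    have he : ∀ j, El.map F (𝓤.f j) ⟨t', z'⟩ = y j := fun j => h' (𝓤.f j) (.mk j)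
    have htt : t' = t := 𝓤.hom_ext _ _ fun j => (congrArg Sigma.fst (he j)).trans (ht j).symm
    subst htt
    refine El.ext rfl ?_
    show F.res (𝟙 _) z' = z
    rw [F.res_id]
    refine hs T _ _ _ hV _ _ fun q => ?_
    rw [hz q]
    have h := El.res_eq (he (idx q))
    simp only [El.map, ← F.res_comp] at h
    rw [← h]
    exact congrArg (F.res · z') (Over.OverMorphism.ext (Category.id_comp _).symm)

/-- Representability from representable open subfunctors covering the functor. -/
theorem exists_rep_openCharts (hs : F.ZarSep) (hg : F.ZarGlue) {ι : Type u} (A : ι → Over S)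
    (ξ : ∀ i, F.obj (A i))
    (huniq : ∀ i (T : Over S) (a b : T ⟶ A i), F.res a (ξ i) = F.res b (ξ i) → a = b)
    (hopen : ∀ i (T : Over S) (x : F.obj T), ∃ W : T.left.Opens, ∀ (T' : Over S) (g : T' ⟶ T),
      (∃ h : T' ⟶ A i, F.res h (ξ i) = F.res g x) ↔ Set.range g.left ⊆ (W : Set T.left))
    (hcov : ∀ (T : Over S) (x : F.obj T) (t : T.left), ∃ i, ∃ (T' : Over S) (g : T' ⟶ T),
      IsOpenImmersion g.left ∧ t ∈ Set.range g.left ∧ ∃ h : T' ⟶ A i, F.res h (ξ i) = F.res g x) :
    ∃ (A₀ : Over S) (η : F.obj A₀), F.IsRep A₀ η := by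
  let G : Sheaf Scheme.zariskiTopology (Type u) := ⟨elFun F, isSheaf_elFun F hs hg⟩
  let f : ∀ i, yoneda.obj (A i).left ⟶ G.1 := fun i => yonedaEquiv.symm ⟨(A i).hom, ξ i⟩
  have hf_app : ∀ i {Y : Scheme.{u}} (a : Y ⟶ (A i).left),
      (f i).app (op Y) a = El.map F a ⟨(A i).hom, ξ i⟩ := fun i Y a => rfl
  have hf : ∀ i, IsOpenImmersion.presheaf (f i) := fun i => by
    refine MorphismProperty.relative.of_exists fun T g => ?_
    let p : El F T := yonedaEquiv g
    have hg' : ∀ {Y : Scheme.{u}} (a : Y ⟶ T), g.app (op Y) a = El.map F a p := fun {Y} a => by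
      conv_lhs => rw [← yonedaEquiv.symm_apply_apply g]
      rfl
    obtain ⟨W, hW⟩ := hopen i (Over.mk p.1) p.2
    obtain ⟨h, hh⟩ := (hW (Over.mk (W.ι ≫ p.1)) (Over.homMk W.ι rfl)).2 (by simp)
    refine ⟨W, yoneda.map h.left, W.ι, ?_, inferInstance⟩
    refine IsPullback.of_forall_isPullback_app fun Y => ?_
    rw [Types.isPullback_iff]
    refine ⟨?_, ?_, ?_⟩
    · ext a
      show (f i).app Y (a ≫ h.left) = g.app Y (a ≫ W.ι)
      rw [hf_app, hg']
      refine El.ext (by simp only [El.map, Category.assoc]; exact congrArg (a ≫ ·) (Over.w h)) ?_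
      show F.res _ (F.res _ (ξ i)) = F.res _ p.2
      rw [← F.res_comp]
      have e := congrArg (F.res (Over.homMk a (Category.assoc a W.ι p.1).symm :
        Over.mk ((a ≫ W.ι) ≫ p.1) ⟶ Over.mk (W.ι ≫ p.1))) hh
      rw [← F.res_comp, ← F.res_comp] at e
      refine Eq.trans (congrArg (F.res · (ξ i)) ?_) (e.trans (congrArg (F.res · p.2) ?_))
      · exact Over.OverMorphism.ext (Category.id_comp _)
      · exact Over.OverMorphism.ext rfl
    · rintro a b ⟨-, h2⟩
      exact (cancel_mono W.ι).1 h2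
    · intro a b hab
      change Y.unop ⟶ (A i).left at a
      change Y.unop ⟶ T at b
      have hab' : El.map F a ⟨(A i).hom, ξ i⟩ = El.map F b p := hab.trans (hg' b)
      let T' : Over S := Over.mk (b ≫ p.1)
      let g₁ : T' ⟶ Over.mk p.1 := Over.homMk b rfl
      let a₁ : T' ⟶ A i := Over.homMk a (congrArg Sigma.fst hab')
      have ha₁ : F.res a₁ (ξ i) = F.res g₁ p.2 := by
        have h := El.res_eq hab'
        simp only [El.map, ← F.res_comp] at h
        rw [← h]
        exact congrArg (F.res · (ξ i)) (Over.OverMorphism.ext (Category.id_comp _).symm)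
      have hb : Set.range b ⊆ ((W : (Over.mk p.1).left.Opens) : Set (Over.mk p.1).left) := (hW T' g₁).1 ⟨a₁, ha₁⟩
      let l := IsOpenImmersion.lift W.ι b (by simpa using! hb)
      have hl : l ≫ W.ι = b := IsOpenImmersion.lift_fac _ _ _
      refine ⟨l, ?_, hl⟩
      let l₁ : T' ⟶ Over.mk (W.ι ≫ p.1) := Over.homMk l (by simp [T', reassoc_of% hl])
      have : l₁ ≫ h = a₁ := huniq i T' _ _ (by
        rw [F.res_comp, hh, ← F.res_comp, ha₁]
        exact congrArg (F.res · p.2) (Over.OverMorphism.ext hl))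
      exact congrArg CommaMorphism.left this
  haveI : Presheaf.IsLocallySurjective Scheme.zariskiTopology (Sigma.desc f) := ⟨fun {U} p => by
    change El F U at p
    choose i T' g hgo hgt h hh using fun z : U => hcov (Over.mk p.1) p.2 z
    let 𝒱 : Scheme.OpenCover U := Scheme.Cover.mkOfCovers U (fun z => (T' z).left) (fun z => (g z).left)
      (fun z => ⟨z, hgt z⟩) hgo
    refine GrothendieckTopology.superset_covering _ ?_ 𝒱.mem_grothendieckTopology
    rintro V v ⟨W, w, _, ⟨z⟩, rfl⟩
    change U at z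
    change V ⟶ (T' z).left at w
    refine ⟨(Sigma.ι (fun j => yoneda.obj (A j).left) (i z)).app (op V) (w ≫ (h z).left), ?_⟩
    have hc : Sigma.ι (fun j => yoneda.obj (A j).left) (i z) ≫ Sigma.desc f = f (i z) := Sigma.ι_desc _ _
    refine Eq.trans (congrArg (fun (r : yoneda.obj (A (i z)).left ⟶ G.1) => r.app (op V) (w ≫ (h z).left)) hc) ?_
    show (f (i z)).app (op V) (w ≫ (h z).left) = El.map F (w ≫ (g z).left) p
    rw [hf_app]
    refine El.ext ?_ ?_
    · simp only [El.map, Category.assoc]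
      exact congrArg (w ≫ ·) ((Over.w (h z)).trans (Over.w (g z)).symm)
    · show F.res _ (F.res _ (ξ (i z))) = F.res _ p.2
      rw [← F.res_comp]
      let w₁ : Over.mk ((w ≫ (g z).left) ≫ p.1) ⟶ T' z := Over.homMk w (by
        show w ≫ (T' z).hom = (w ≫ (g z).left) ≫ p.1
        rw [Category.assoc]
        exact congrArg (w ≫ ·) (Over.w (g z)).symm)
      have e := congrArg (F.res w₁) (hh z)
      rw [← F.res_comp, ← F.res_comp] at e
      refine Eq.trans (congrArg (F.res · (ξ (i z))) ?_) (e.trans (congrArg (F.res · p.2) ?_))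
      · exact Over.OverMorphism.ext (Category.id_comp _)
      · exact Over.OverMorphism.ext rfl⟩
  let R := Scheme.LocalRepresentability.representableBy hf
  let η₀ : El F (Scheme.LocalRepresentability.glueData hf).glued := R.homEquiv (𝟙 _)
  let A₀ : Over S := Over.mk η₀.1
  have hR : ∀ {Y : Scheme.{u}} (a : Y ⟶ (Scheme.LocalRepresentability.glueData hf).glued),
      R.homEquiv a = El.map F a η₀ := fun {Y} a => by
    rw [R.homEquiv_eq a]
    rfl
  refine ⟨A₀, η₀.2, fun T x => ?_⟩
  let p : El F T.left := ⟨T.hom, x⟩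
  have hp : El.map F (R.homEquiv.symm p) η₀ = p := by rw [← hR]; exact R.homEquiv.apply_symm_apply p
  let a : T ⟶ A₀ := Over.homMk (R.homEquiv.symm p) (congrArg Sigma.fst hp)
  refine ⟨a, ?_, fun b hb => ?_⟩
  · have h := El.res_eq hp
    simp only [El.map, ← F.res_comp] at h
    show F.res a η₀.2 = p.2
    rw [← h]
    exact congrArg (F.res · η₀.2) (Over.OverMorphism.ext (Category.id_comp _).symm)
  · refine Over.OverMorphism.ext (R.homEquiv.injective ?_)
    show R.homEquiv b.left = R.homEquiv (R.homEquiv.symm p)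
    rw [R.homEquiv.apply_symm_apply, hR]
    refine El.ext (Over.w b) ?_
    show F.res _ (F.res _ η₀.2) = x
    rw [← F.res_comp, ← hb]
    exact congrArg (F.res · η₀.2) (Over.OverMorphism.ext (Category.id_comp _))

end Groth.L02.Hilb
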