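import Groth.Agent.L02.Hilb.ChartLocal
import Groth.Agent.L02.Hilb.Fam
import Groth.Agent.L02.Hilb.OpenCharts
import Mathlib.AlgebraicGeometry.Morphisms.Finite

/-!
Representability of the Hilbert functor of points from affine charts.
-/

set_option autoImplicit false
set_option linter.style.haveILetI false
set_option backward.isDefEq.respectTransparency false
set_option backward.isDefEq.respectTransparency.types false

universe u

open CategoryTheory CategoryTheory.Limits AlgebraicGeometry TopologicalSpace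
open scoped TensorProduct
open Groth.L13.BU

noncomputable section

namespace Groth.L02.Hilb

open Groth.L25.HomScheme

variable {X S : Scheme.{u}} {f : X ⟶ S} {d : ℕ}

namespace Chart

variable (c : Chart f d)

/-- The same affine piece with other elements. -/
abbrev setS (s : Fin d → c.B) : Chart f d := { c with s := s }

theorem exists_overMap_eq {A A' : Type u} [CommRing A] [Algebra c.R A] [CommRing A'] [Algebra c.R A']
    (h : c.over A' ⟶ c.over A) : ∃ φ : A →ₐ[c.R] A', h = c.overMap φ := by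
  let ψ := Spec.preimage h.left
  have hψ : Spec.map ψ = h.left := Spec.map_preimage _
  have hw := Over.w h
  rw [← hψ] at hw
  change Spec.map ψ ≫ Spec.map _ ≫ c.i = Spec.map _ ≫ c.i at hw
  rw [← Category.assoc, ← Spec.map_comp, cancel_mono] at hw
  have hc := congrArg CommRingCat.Hom.hom (Spec.map_injective hw)
  exact ⟨{ ψ.hom with commutes' := fun r => congrArg (fun φ : c.R →+* A' => φ r) hc }, Over.OverMorphism.ext hψ.symm⟩

/-- A morphism into `S` landing in the chart makes an algebra. -/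
theorem exists_alg {A : Type u} [CommRing A] (a : Spec (CommRingCat.of A) ⟶ S)
    (h : Set.range a ⊆ Set.range c.i) :
    ∃ _ : Algebra c.R A, Spec.map (CommRingCat.ofHom (algebraMap c.R A)) ≫ c.i = a := by
  let ψ := Spec.preimage (IsOpenImmersion.lift c.i a h)
  refine ⟨ψ.hom.toAlgebra, ?_⟩
  show Spec.map ψ ≫ c.i = a
  rw [Spec.map_preimage, IsOpenImmersion.lift_fac]

/-- A morphism over `S` from `Spec A` makes a morphism from the chart object. -/
def fromOver {A : Type u} [CommRing A] [Algebra c.R A] {T : Over S} (k : Spec (CommRingCat.of A) ⟶ T.left)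
    (h : k ≫ T.hom = Spec.map (CommRingCat.ofHom (algebraMap c.R A)) ≫ c.i) : c.over A ⟶ T :=
  Over.homMk k h

theorem exists_affine_nbhd {T : Over S} (x : HilbD.Obj f d T) (y : T.left) (hy : T.hom y ∈ Set.range c.i)
    (hfib : ∀ w : x.1.subscheme, (x.1.subschemeι ≫ PicF.XTproj f T) w = y →
      (x.1.subschemeι ≫ pullback.fst f T.hom) w ∈ Set.range c.j) :
    ∃ (A : Type u) (_ : CommRing A) (_ : Algebra c.R A) (e : c.over A ⟶ T), IsOpenImmersion e.left ∧
      y ∈ Set.range e.left ∧ Set.range (HilbD.pull f e x.1).subschemeι ⊆ Set.range (c.μ A) := by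
  obtain ⟨⟨hfin, -, -⟩, -⟩ := x.2
  haveI := hfin
  let q := x.1.subschemeι ≫ PicF.XTproj f T
  let bad : Set T.left := q '' ((x.1.subschemeι ≫ pullback.fst f T.hom) ⁻¹' (Set.range c.j)ᶜ)
  have hbad : IsClosed bad :=
    q.isClosedMap _ ((c.j.isOpenEmbedding.isOpen_range.isClosed_compl).preimage
      (x.1.subschemeι ≫ pullback.fst f T.hom).continuous)
  have hyb : y ∉ bad := by rintro ⟨w, hw, rfl⟩; exact hw (hfib w rfl)
  let O : T.left.Opens := (T.hom ⁻¹ᵁ c.i.opensRange) ⊓ ⟨badᶜ, hbad.isOpen_compl⟩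
  obtain ⟨Ω, hΩ, hyΩ, hΩO⟩ := exists_isAffineOpen_mem_and_subset (x := y) (U := O) ⟨hy, hyb⟩
  obtain ⟨alg, halg⟩ := c.exists_alg (A := Γ(T.left, Ω)) (hΩ.fromSpec ≫ T.hom) (by
    rintro _ ⟨z, rfl⟩
    exact (hΩO (hΩ.range_fromSpec ▸ Set.mem_range_self z : hΩ.fromSpec z ∈ (Ω : Set T.left))).1)
  letI := alg
  let e : c.over Γ(T.left, Ω) ⟶ T := c.fromOver hΩ.fromSpec halg.symm
  refine ⟨Γ(T.left, Ω), inferInstance, alg, e, inferInstanceAs (IsOpenImmersion hΩ.fromSpec),
    ?_, ?_⟩
  · show y ∈ Set.range hΩ.fromSpec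
    rw [hΩ.range_fromSpec]; exact hyΩ
  · rw [pull_eq]
    rintro _ ⟨v, rfl⟩
    rw [mem_range_μ]
    let m := (x.1.comapIso (PicF.XTmap f e)).hom ≫ pullback.snd _ _
    have hm : m ≫ x.1.subschemeι = (x.1.comap (PicF.XTmap f e)).subschemeι ≫ PicF.XTmap f e := by
      simp only [m, Category.assoc, ← pullback.condition]
      rw [← Category.assoc, Scheme.IdealSheafData.comapIso_hom_fst]
    by_contra hcon
    have h1 : (m ≫ x.1.subschemeι ≫ PicF.XTproj f T) v ∈ (Ω : Set T.left) := by
      rw [reassoc_of% hm, XTmap_snd, ← Category.assoc, Scheme.Hom.comp_apply]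
      exact hΩ.range_fromSpec ▸ Set.mem_range_self _
    refine (hΩO h1).2 ⟨m v, ?_, by simp [q, Scheme.Hom.comp_apply]⟩
    show (x.1.subschemeι ≫ pullback.fst f T.hom) (m v) ∉ Set.range c.j
    rw [← Scheme.Hom.comp_apply, reassoc_of% hm, XTmap_fst, Scheme.Hom.comp_apply]
    exact hcon

variable [IsSeparated f]

/-- The universal family of a chart. -/
def univObj : HilbD.Obj f d (c.over (ChartRing c.R c.B c.s)) :=
  ⟨c.famIdeal (univCoord c.R c.B c.s), c.isFinLocFreeOfDeg_famIdeal _⟩

theorem pull_univ {A : Type u} [CommRing A] [Algebra c.R A] (φ : ChartRing c.R c.B c.s →ₐ[c.R] A) :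
    HilbD.pull f (c.overMap φ) c.univObj.1 = c.famIdeal ((univCoord c.R c.B c.s).push φ) :=
  c.pull_famIdeal _ φ

theorem eq_of_pull_univ {T : Over S} (a b : T ⟶ c.over (ChartRing c.R c.B c.s))
    (h : HilbD.pull f a c.univObj.1 = HilbD.pull f b c.univObj.1) : a = b := by
  refine Over.OverMorphism.ext (Scheme.Cover.hom_ext T.left.affineCover _ _ fun n => ?_)
  let A : Type u := Γ(T.left.affineCover.X n, ⊤)
  let g : Spec (CommRingCat.of A) ⟶ T.left := (T.left.affineCover.X n).isoSpec.inv ≫ T.left.affineCover.f n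
  rw [← cancel_epi (T.left.affineCover.X n).isoSpec.inv, ← Category.assoc, ← Category.assoc]
  show g ≫ a.left = g ≫ b.left
  let χ : ChartRing c.R c.B c.s →+* A := (Spec.preimage (g ≫ a.left)).hom
  letI : Algebra c.R A := (χ.comp (algebraMap c.R _)).toAlgebra
  have hg : g ≫ T.hom = Spec.map (CommRingCat.ofHom (algebraMap c.R A)) ≫ c.i := by
    rw [← Over.w a]
    change g ≫ a.left ≫ Spec.map _ ≫ c.i = _
    rw [← Category.assoc, ← Spec.map_preimage (g ≫ a.left), ← Category.assoc, ← Spec.map_comp]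
    rfl
  let e : c.over A ⟶ T := c.fromOver (A := A) g hg
  obtain ⟨φ, hφ⟩ := c.exists_overMap_eq (e ≫ a)
  obtain ⟨ψ, hψ⟩ := c.exists_overMap_eq (e ≫ b)
  have h1 : c.famIdeal ((univCoord c.R c.B c.s).push φ) = c.famIdeal ((univCoord c.R c.B c.s).push ψ) := by
    rw [← pull_univ, ← pull_univ, ← hφ, ← hψ, pull_comp, pull_comp, h]
  have h2 := push_univ_inj (c.famIdeal_injective _ h1)
  exact congrArg CommaMorphism.left (hφ.trans ((congrArg c.overMap h2).trans hψ.symm))

/-- Near a point where the chart's elements span the fibre, the family comes from the chart. -/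
theorem exists_chart_nbhd {T : Over S} (x : HilbD.Obj f d T) {A : Type u} [CommRing A] [Algebra c.R A]
    (e : c.over A ⟶ T) [IsOpenImmersion e.left]
    (hr : Set.range (HilbD.pull f e x.1).subschemeι ⊆ Set.range (c.μ A))
    (p : PrimeSpectrum A) {K : Ideal (A ⊗[c.R] c.B)} (hK : (HilbD.pull f e x.1).comap (c.μ A) = idealOf K)
    [Module.Finite A ((A ⊗[c.R] c.B) ⧸ K)]
    (hQ : Subsingleton (p.asIdeal.ResidueField ⊗[A] ((A ⊗[c.R] c.B) ⧸ reach c.s K))) :
    ∃ (T' : Over S) (g : T' ⟶ T), IsOpenImmersion g.left ∧ e.left p ∈ Set.range g.left ∧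
      ∃ h : T' ⟶ c.over (ChartRing c.R c.B c.s), HilbD.pull f h c.univObj.1 = HilbD.pull f g x.1 := by
  haveI := finite_quot_reach (s := c.s) (K := K)
  obtain ⟨g, hg, hgp⟩ := exists_annihilator_notMem _ p hQ
  let φ : A →ₐ[c.R] Localization.Away g := IsScalarTower.toAlgHom c.R A (Localization.Away g)
  have hu : IsUnit (φ g) := IsLocalization.Away.algebraMap_isUnit g
  let sq := c.isPullback_map φ
  let I' := HilbD.pull f (c.overMap φ ≫ e) x.1
  have hI' : I' = (HilbD.pull f e x.1).comap (PicF.XTmap f (c.overMap φ)) := by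
    show HilbD.pull f (c.overMap φ ≫ e) x.1 = _
    rw [pull_comp, pull_eq]
  have hr' : Set.range I'.subschemeι ⊆ Set.range (c.μ (Localization.Away g)) := by
    rw [hI']
    rintro _ ⟨v, rfl⟩
    rw [mem_range_μ]
    let J := HilbD.pull f e x.1
    let m := (J.comapIso (PicF.XTmap f (c.overMap φ))).hom ≫ pullback.snd _ _
    have hm : m ≫ J.subschemeι = (J.comap (PicF.XTmap f (c.overMap φ))).subschemeι ≫ PicF.XTmap f (c.overMap φ) := by
      simp only [m, Category.assoc, ← pullback.condition]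
      rw [← Category.assoc, Scheme.IdealSheafData.comapIso_hom_fst]
    have h1 := (mem_range_μ c A _).1 (hr ⟨m v, rfl⟩)
    rw [← Scheme.Hom.comp_apply, ← Scheme.Hom.comp_apply, ← Category.assoc, hm, Category.assoc, XTmap_fst,
      Scheme.Hom.comp_apply] at h1
    exact h1
  obtain ⟨K', -, -, -, hsurj, hK'⟩ := c.exists_coord I' (isFinLocFreeOfDeg_pull f _ x.1 x.2) hr'
  have hKK : K' = K.map (Algebra.TensorProduct.map φ (AlgHom.id c.R c.B)).toRingHom := by
    refine idealOf_injective ?_
    rw [← hK', hI', ← Scheme.IdealSheafData.comap_comp, ← sq.w, Scheme.IdealSheafData.comap_comp, hK, idealOf_comap]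
  obtain ⟨x', hx'⟩ := hsurj (hKK ▸ surjective_sec_of_annihilator φ hg hu)
  obtain ⟨χ, hχ⟩ := exists_push_univ x'
  haveI : IsOpenImmersion (c.overMap φ).left :=
    inferInstanceAs (IsOpenImmersion (Spec.map (CommRingCat.ofHom (algebraMap A (Localization.Away g)))))
  refine ⟨c.over (Localization.Away g), c.overMap φ ≫ e, ?_, ?_, c.overMap χ, ?_⟩
  · rw [Over.comp_left]; infer_instance
  · have : p ∈ (PrimeSpectrum.basicOpen g : Set (PrimeSpectrum A)) := hgp
    rw [← PrimeSpectrum.localization_away_comap_range (Localization.Away g) g] at this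
    obtain ⟨q, rfl⟩ := this
    exact ⟨q, by rw [Over.comp_left, Scheme.Hom.comp_apply]; rfl⟩
  · rw [pull_univ, hχ, hx']

/-- Points where the family comes from the chart have such neighbourhoods. -/
theorem exists_chart_nbhd_of_point {T : Over S} (x : HilbD.Obj f d T) {T' : Over S} (g : T' ⟶ T)
    (h : T' ⟶ c.over (ChartRing c.R c.B c.s)) (hh : HilbD.pull f h c.univObj.1 = HilbD.pull f g x.1) (y' : T'.left) :
    ∃ (T'' : Over S) (g' : T'' ⟶ T), IsOpenImmersion g'.left ∧ g.left y' ∈ Set.range g'.left ∧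
      ∃ h' : T'' ⟶ c.over (ChartRing c.R c.B c.s), HilbD.pull f h' c.univObj.1 = HilbD.pull f g' x.1 := by
  have hy : T.hom (g.left y') ∈ Set.range c.i := by
    rw [← Scheme.Hom.comp_apply, Over.w g, ← Over.w h]
    change (h.left ≫ Spec.map _ ≫ c.i) y' ∈ _
    rw [← Category.assoc, Scheme.Hom.comp_apply]
    exact Set.mem_range_self _
  have hfib : ∀ w : x.1.subscheme, (x.1.subschemeι ≫ PicF.XTproj f T) w = g.left y' →
      (x.1.subschemeι ≫ pullback.fst f T.hom) w ∈ Set.range c.j := by
    intro w hw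
    obtain ⟨p, hp1, hp2⟩ := Scheme.Pullback.exists_preimage_pullback
      (f := x.1.subschemeι ≫ PicF.XTproj f T) (g := g.left) w y' hw
    have sq := isPullback_comap (isPullback_XTmap f g) x.1
    let v := sq.isoPullback.inv p
    have hv : (x.1.comap (PicF.XTmap f g)).subschemeι ≫ pullback.fst f T'.hom =
        ((x.1.comapIso (PicF.XTmap f g)).hom ≫ pullback.snd _ _) ≫ x.1.subschemeι ≫ pullback.fst f T.hom := by
      rw [Category.assoc, ← pullback.condition_assoc, Scheme.IdealSheafData.comapIso_hom_fst_assoc, XTmap_fst]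
    have hw' : ((x.1.comap (PicF.XTmap f g)).subschemeι ≫ pullback.fst f T'.hom) v =
        (x.1.subschemeι ≫ pullback.fst f T.hom) w := by
      rw [hv, Scheme.Hom.comp_apply, ← hp1]
      congr 1
      show _ = (pullback.fst (x.1.subschemeι ≫ PicF.XTproj f T) g.left) p
      rw [← sq.isoPullback_inv_fst]
      simp only [v, Scheme.Hom.comp_apply]
    rw [← hw']
    have key : ∀ (J : (PicF.XT f T').IdealSheafData), J = HilbD.pull f h c.univObj.1 → ∀ u : J.subscheme,
        (J.subschemeι ≫ pullback.fst f T'.hom) u ∈ Set.range c.j := by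
      intro J hJ
      rw [pull_eq] at hJ
      subst hJ
      intro u
      let J0 := c.univObj.1
      let m := (J0.comapIso (PicF.XTmap f h)).hom ≫ pullback.snd _ _
      have hm : m ≫ J0.subschemeι = (J0.comap (PicF.XTmap f h)).subschemeι ≫ PicF.XTmap f h := by
        simp only [m, Category.assoc, ← pullback.condition]
        rw [← Category.assoc, Scheme.IdealSheafData.comapIso_hom_fst]
      rw [← XTmap_fst f h, ← Category.assoc, ← hm, Category.assoc, Scheme.Hom.comp_apply, Scheme.Hom.comp_apply]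
      refine (mem_range_μ c _ _).1 ?_
      have hrange : Set.range J0.subschemeι ⊆ Set.range (c.μ (ChartRing c.R c.B c.s)) := by
        let κ := (idealOf (univCoord c.R c.B c.s).ideal).subschemeι ≫ c.μ (ChartRing c.R c.B c.s)
        show Set.range κ.ker.subschemeι ⊆ _
        rw [Scheme.IdealSheafData.range_subschemeι, Scheme.Hom.support_ker]
        show closure (Set.range κ) ⊆ _
        rw [κ.isClosedEmbedding.isClosed_range.closure_eq]
        rintro _ ⟨w, rfl⟩
        exact ⟨_, (Scheme.Hom.comp_apply _ _ w).symm⟩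
      exact hrange ⟨_, rfl⟩
    exact key _ (by rw [hh, pull_eq]) v
  obtain ⟨A, hA, hAlg, e, he, hye, hr⟩ := c.exists_affine_nbhd x (g.left y') hy hfib
  obtain ⟨p, hp⟩ := hye
  obtain ⟨K, hfin, -, -, -, hK⟩ := c.exists_coord _ (isFinLocFreeOfDeg_pull f e x.1 x.2) hr
  let L := T'.left.residueField y'
  let o : Spec L ⟶ T'.left := T'.left.fromSpecResidueField y'
  have ho : Set.range (o ≫ g.left) ⊆ Set.range e.left := by
    rintro _ ⟨z, rfl⟩
    rw [Scheme.Hom.comp_apply, Scheme.fromSpecResidueField_apply, ← hp]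
    exact Set.mem_range_self _
  let φ₀ : A →+* L := (Spec.preimage (IsOpenImmersion.lift e.left (o ≫ g.left) ho)).hom
  letI : Algebra A L := φ₀.toAlgebra
  letI : Algebra c.R L := (φ₀.comp (algebraMap c.R A)).toAlgebra
  let φ : A →ₐ[c.R] L := { φ₀ with commutes' := fun _ => rfl }
  have hφe : (c.overMap φ).left ≫ e.left = o ≫ g.left := by
    show Spec.map (CommRingCat.ofHom φ₀) ≫ e.left = _
    rw [show CommRingCat.ofHom φ₀ = Spec.preimage (IsOpenImmersion.lift e.left (o ≫ g.left) ho) from rfl,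
      Spec.map_preimage, IsOpenImmersion.lift_fac]
  let eL : c.over L ⟶ T' := c.fromOver o (by
    rw [← Over.w g, ← Category.assoc, ← hφe, Category.assoc, Over.w e]
    show Spec.map _ ≫ Spec.map _ ≫ c.i = _
    rw [← Category.assoc, ← Spec.map_comp]
    rfl)
  have heL : eL ≫ g = c.overMap φ ≫ e := Over.OverMorphism.ext hφe.symm
  obtain ⟨χ, hχ⟩ := c.exists_overMap_eq (eL ≫ h)
  have hxL : ((univCoord c.R c.B c.s).push χ).ideal = K.map (Algebra.TensorProduct.map φ (AlgHom.id c.R c.B)).toRingHom := by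
    refine idealOf_injective ?_
    rw [← c.famIdeal_comap, ← pull_univ, ← hχ, pull_comp, hh, ← pull_comp, heL, pull_comp, pull_eq f (c.overMap φ),
      ← Scheme.IdealSheafData.comap_comp, ← (c.isPullback_map φ).w, Scheme.IdealSheafData.comap_comp, hK,
      idealOf_comap]
  have hp' : (PrimeSpectrum.comap φ₀) (default : PrimeSpectrum L) = p := by
    refine (e.left.isOpenEmbedding.injective) ?_
    rw [hp]
    have h1 := congrArg (fun r => r (default : Spec L)) hφe
    simp only [Scheme.Hom.comp_apply] at h1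
    refine Eq.trans ?_ (h1.trans (congrArg g.left (Scheme.fromSpecResidueField_apply _ _)))
    show e.left (Spec.map (CommRingCat.ofHom φ₀) _) = e.left (Spec.map (CommRingCat.ofHom φ₀) _)
    exact congrArg (fun z => e.left (Spec.map (CommRingCat.ofHom φ₀) z)) (Subsingleton.elim (α := PrimeSpectrum L) _ _)
  haveI hl : (default : PrimeSpectrum L).asIdeal.LiesOver p.asIdeal := ⟨by rw [← hp']; rfl⟩
  letI : Algebra p.asIdeal.ResidueField L :=
    (Ideal.ResidueField.lift p.asIdeal φ₀ (fun a ha => by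
      rw [← hp'] at ha
      have : φ₀ a ∈ (default : PrimeSpectrum L).asIdeal := ha
      rwa [show (default : PrimeSpectrum L).asIdeal = ⊥ from (Ideal.eq_bot_or_top _).resolve_right (default : PrimeSpectrum L).2.ne_top,
        Ideal.mem_bot] at this) (fun a ha => by
      refine IsUnit.mk0 _ fun h0 => ha ?_
      rw [← hp']
      show φ₀ a ∈ (default : PrimeSpectrum L).asIdeal
      rw [h0]; exact zero_mem _)).toAlgebra
  haveI : IsScalarTower A p.asIdeal.ResidueField L := IsScalarTower.of_algebraMap_eq fun a =>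
    (Ideal.ResidueField.lift_algebraMap p.asIdeal φ₀ _ _ a).symm
  have hQ := subsingleton_residueField_tensor _ p L
    (subsingleton_tensor_quot_reach (s := c.s) φ (fun _ => rfl) _ hxL)
  haveI := hfin
  obtain ⟨T'', g', hg', hmem, hex⟩ := c.exists_chart_nbhd x e hr p hK hQ
  exact ⟨T'', g', hg', hp ▸ hmem, hex⟩

end Chart

variable [IsSeparated f]

/-- The Hilbert functor of points is representable when enough affine charts are given. -/
theorem representable_of_charts {ι₀ : Type u} (Ch : ι₀ → Chart f d)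
    (hcov : ∀ (T : Over S) (x : HilbD.Obj f d T) (y : T.left), ∃ k, T.hom y ∈ Set.range (Ch k).i ∧
      ∀ w : x.1.subscheme, (x.1.subschemeι ≫ PicF.XTproj f T) w = y →
        (x.1.subschemeι ≫ pullback.fst f T.hom) w ∈ Set.range (Ch k).j) :
    HilbD.Representable f d := by
  let C : (Σ k : ι₀, (Fin d → (Ch k).B)) → Chart f d := fun i => (Ch i.1).setS i.2
  obtain ⟨H, Z, hZ⟩ := exists_rep_openCharts (hilbFam f d) (zarSep_hilbFam f d) (zarGlue_hilbFam f d)
    (fun i => (C i).over (ChartRing (C i).R (C i).B (C i).s)) (fun i => (C i).univObj)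
    (fun i T a b h => (C i).eq_of_pull_univ a b (congrArg Subtype.val h))
    (fun i T x => by
      let c := C i
      let A₀ := c.over (ChartRing c.R c.B c.s)
      let good : Set (TopologicalSpace.Opens T.left) := {W | ∃ (T' : Over S) (g : T' ⟶ T) (_ : IsOpenImmersion g.left),
        g.left.opensRange = W ∧ ∃ h : T' ⟶ A₀, HilbD.pull f h c.univObj.1 = HilbD.pull f g x.1}
      refine ⟨sSup good, fun T₁ g₁ => ⟨?_, ?_⟩⟩
      · rintro ⟨h, hh⟩ _ ⟨y, rfl⟩
        obtain ⟨T'', g', hg', hy, hex⟩ := c.exists_chart_nbhd_of_point x g₁ h (congrArg Subtype.val hh) y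
        exact TopologicalSpace.Opens.mem_sSup.2 ⟨g'.left.opensRange, ⟨T'', g', hg', rfl, hex⟩, hy⟩
      · intro hr
        have hpt : ∀ t : T₁.left, ∃ (T' : Over S) (g : T' ⟶ T) (_ : IsOpenImmersion g.left),
            g₁.left t ∈ Set.range g.left ∧ ∃ h : T' ⟶ A₀, HilbD.pull f h c.univObj.1 = HilbD.pull f g x.1 := by
          intro t
          obtain ⟨W, ⟨T', g, hg, rfl, hex⟩, ht⟩ := TopologicalSpace.Opens.mem_sSup.1 (hr ⟨t, rfl⟩)
          exact ⟨T', g, hg, ht, hex⟩
        choose T' g hg hgt h hh using hpt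
        let U : T₁.left → Over S := fun t => Over.mk (pullback.fst g₁.left (g t).left ≫ T₁.hom)
        let k : ∀ t, U t ⟶ T₁ := fun t => Over.homMk (pullback.fst g₁.left (g t).left) rfl
        let l : ∀ t, U t ⟶ T' t := fun t => Over.homMk (pullback.snd g₁.left (g t).left) (by
          show pullback.snd g₁.left (g t).left ≫ (T' t).hom = pullback.fst g₁.left (g t).left ≫ T₁.hom
          rw [← Over.w (g t), ← pullback.condition_assoc, Over.w g₁])
        have hkl : ∀ t, k t ≫ g₁ = l t ≫ g t := fun t => Over.OverMorphism.ext pullback.condition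
        have hU : IsOpenFamily U k := by
          refine ⟨fun t => ?_, fun t => ?_⟩
          · exact inferInstanceAs (IsOpenImmersion (pullback.fst g₁.left (g t).left))
          · obtain ⟨w, hw⟩ := hgt t
            obtain ⟨z, hz, -⟩ := Scheme.Pullback.exists_preimage_pullback (f := g₁.left) (g := (g t).left) t w hw.symm
            exact ⟨t, z, hz⟩
        obtain ⟨a, ha⟩ := hU.exists_glue (fun t => l t ≫ h t) fun t t' Z u v huv => by
          refine c.eq_of_pull_univ _ _ ?_
          rw [← Category.assoc, ← Category.assoc, pull_comp, hh, ← pull_comp, pull_comp _ _ (h t'), hh, ← pull_comp,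
            Category.assoc, Category.assoc, ← hkl, ← hkl, ← Category.assoc, ← Category.assoc, huv]
        refine ⟨a, zarSep_hilbFam f d T₁ _ U k hU _ _ fun t => Subtype.ext ?_⟩
        show HilbD.pull f (k t) (HilbD.pull f a c.univObj.1) = HilbD.pull f (k t) (HilbD.pull f g₁ x.1)
        rw [← pull_comp, ha, pull_comp, hh, ← pull_comp, ← pull_comp, hkl])
    (fun T x y => by
      obtain ⟨k, hy, hfib⟩ := hcov T x y
      let c₀ := Ch k
      obtain ⟨A, hA, hAlg, e, he, hye, hr⟩ := c₀.exists_affine_nbhd x y hy hfib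
      obtain ⟨p, hp⟩ := hye
      obtain ⟨K, hfin, hproj, hrank, -, hK⟩ := c₀.exists_coord _ (isFinLocFreeOfDeg_pull f e x.1 x.2) hr
      haveI := hfin; haveI := hproj
      obtain ⟨s, hs⟩ := exists_sections (K := K) p (hrank p)
      obtain ⟨T', g, hg, hmem, h, hh⟩ := (c₀.setS s).exists_chart_nbhd x e hr p hK hs
      exact ⟨⟨k, s⟩, T', g, hg, hp ▸ hmem, h, Subtype.ext hh⟩)
  exact ⟨H, Z, fun T Z' => ⟨(hZ T Z').choose, congrArg Subtype.val (hZ T Z').choose_spec.1,
    fun g hg => (hZ T Z').choose_spec.2 g (Subtype.ext hg)⟩⟩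

end Groth.L02.Hilb
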